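import Cfsg.Agent.Lib.Presented.HNIndex.Small

/-!
Lower bounds for subgroups of the group on x, y, z given by words, and sets reached from several points of
the action of degree 1408.
-/
set_option autoImplicit false
set_option maxRecDepth 8000

namespace CfsgLib.Presented.HNIndex

open HNxyz (T)
open HNIndexSmall (rep)

/-- one level of a chain: generators, a point with its orbit, and generators fixing the point -/
structure Level where
  gens : List (List ℕ)
  point : ℕ
  rounds : ℕ
  orb : ℕ
  size : ℕ
  next : List (List ℕ × List ℕ)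

/-- product of entries of a table -/
noncomputable def cat (tbl : List (List ℕ)) (l : List ℕ) : List ℕ := l.flatMap fun q => tbl.getD q []

/-- checks of a chain below generators `gens` -/
noncomputable def chainW : List (List ℕ) → List Level → Bool
  | _, [] => true
  | gens, L :: rest =>
    L.gens.all (fun w => low w && gens.contains w) &&
      orbitOK rep L.gens L.point L.rounds L.orb && Nat.beq (bitCount L.orb rep.N) L.size &&
      L.next.all (fun d => d.1.all (fun q => Nat.blt q L.gens.length) &&
        (Vec.applyNet (rep.netW d.2) (Nat.shiftLeft 1 L.point)).testBit L.point &&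
        eqN d.2 (cat L.gens d.1)) &&
      chainW (L.next.map Prod.snd) rest

/-- the bound of a chain -/
noncomputable def levProd : List Level → ℕ
  | [] => 1
  | L :: rest => L.size * levProd rest

/-- the subgroup generated by words -/
noncomputable def gen (gens : List (List ℕ)) : Subgroup T :=
  Subgroup.closure ((fun w => evW HNxyz.ev w) '' {w | w ∈ gens})

theorem mem_gen {gens : List (List ℕ)} {w : List ℕ} (h : w ∈ gens) : evW HNxyz.ev w ∈ gen gens :=
  Subgroup.subset_closure ⟨w, h, rfl⟩

theorem cat_mem {gens : List (List ℕ)} : ∀ {l : List ℕ}, (l.all fun q => Nat.blt q gens.length) = true →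
    evW HNxyz.ev (cat gens l) ∈ gen gens
  | [], _ => by simp [cat]
  | q :: l, h => by
    simp only [List.all_cons, Bool.and_eq_true, Nat.blt_eq] at h
    have e : cat gens (q :: l) = gens.getD q [] ++ cat gens l := rfl
    rw [e, evW_append]
    refine (gen gens).mul_mem (mem_gen ?_) (cat_mem h.2)
    rw [List.getD_eq_getElem _ _ h.1]
    exact List.getElem_mem h.1

theorem levProd_le : ∀ (Ls : List Level) (gens : List (List ℕ)), chainW gens Ls = true →
    levProd Ls ≤ Nat.card (gen gens)
  | [], gens, _ => by
    haveI := HNxyz.finite_T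
    exact Nat.card_pos
  | L :: rest, gens, h => by
    haveI := HNxyz.finite_T
    simp only [chainW, Bool.and_eq_true] at h
    obtain ⟨⟨⟨⟨hg, horb⟩, hsize⟩, hnext⟩, hrest⟩ := h
    simp only [List.all_eq_true, Bool.and_eq_true, List.contains_iff_mem] at hg hnext
    have hi : L.point < rep.N := by
      simp only [orbitOK, Bool.and_eq_true, Nat.blt_eq] at horb
      exact horb.1.1
    letI : MulAction T (Fin rep.N) := MulAction.compHom (Fin rep.N) small
    let K0 : Subgroup T := gen L.gens
    have hle : K0 ≤ gen gens := Subgroup.closure_mono (Set.image_mono fun w hw => (hg w hw).2)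
    have horbit := orbit_eq_of_ok small_valid horb small small_ev (H := K0) rfl hi
    have hsz : (MulAction.orbit K0 (⟨L.point, hi⟩ : Fin rep.N)).ncard = L.size := by
      rw [← Nat.eq_of_beq_eq_true hsize, bitCount_eq, ← Set.ncard_coe_finset]
      refine Set.ncard_congr (fun q _ => (q : ℕ)) ?_ (fun p q _ _ h => Fin.ext h) ?_
      · intro q hq
        obtain ⟨⟨g, hg⟩, rfl⟩ := hq
        have := (horbit (small g ⟨L.point, hi⟩)).1 ⟨g, hg, rfl⟩
        simp only [Finset.coe_filter, Finset.mem_range]
        exact ⟨(small g ⟨L.point, hi⟩).2, this⟩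
      · intro k hk
        simp only [Finset.coe_filter, Finset.mem_range] at hk
        obtain ⟨g, hg, he⟩ := (horbit ⟨k, hk.1⟩).2 hk.2
        exact ⟨⟨k, hk.1⟩, ⟨⟨g, hg⟩, he⟩, rfl⟩
    let S := MulAction.stabilizer K0 (⟨L.point, hi⟩ : Fin rep.N)
    have hindex : S.index = L.size := (MulAction.index_stabilizer K0 _).trans hsz
    have hsub : gen (L.next.map Prod.snd) ≤ S.map K0.subtype := by
      rw [gen, Subgroup.closure_le]
      rintro _ ⟨w, hw, rfl⟩
      obtain ⟨d, hd, rfl⟩ := List.mem_map.1 hw
      obtain ⟨⟨hidx, hfix⟩, heq⟩ := hnext d hd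
      have hlow : low d.2 = true := by simp only [eqN, Bool.and_eq_true] at heq; exact heq.1.1
      have hmem : evW HNxyz.ev d.2 ∈ K0 := by
        rw [eqN_spec heq]
        exact cat_mem (List.all_eq_true.2 hidx)
      refine ⟨⟨_, hmem⟩, MulAction.mem_stabilizer_iff.2 (Fin.ext ?_), rfl⟩
      show (small (evW HNxyz.ev d.2) ⟨L.point, hi⟩ : ℕ) = L.point
      rw [small_apply hlow]
      rw [Vec.testBit_applyNet (Rep.netOk_netW small_valid _)] at hfix
      change Nat.testBit (1 <<< L.point) _ = true at hfix
      rw [Nat.testBit_shiftLeft, Bool.and_eq_true, decide_eq_true_eq] at hfix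
      have h1 := VCert.one_bit hfix.2
      have h2 := hfix.1
      simp only
      omega
    calc levProd (L :: rest) = L.size * levProd rest := rfl
      _ ≤ L.size * Nat.card S := Nat.mul_le_mul_left _ ((levProd_le rest _ hrest).trans
          ((Subgroup.card_le_of_le hsub).trans_eq (Subgroup.card_map_of_injective K0.subtype_injective)))
      _ = Nat.card K0 := by rw [← hindex, mul_comm]; exact S.card_mul_index
      _ ≤ Nat.card (gen gens) := Subgroup.card_le_of_le hle

/-- union of the preimages of the base point under several words -/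
noncomputable def seeds (ws : List (List ℕ)) : ℕ :=
  ws.foldr (fun w a => Nat.lor (Vec.applyNet (rep.netW w) (Nat.shiftLeft 1 HNIndexSmall.base)) a) 0

theorem seeds_spec : ∀ {ws : List (List ℕ)}, (∀ w ∈ ws, low w = true) → ∀ j : Fin rep.N,
    (seeds ws).testBit j = true → ∃ w ∈ ws, (small (evW HNxyz.ev w) j : ℕ) = HNIndexSmall.base
  | [], _, j, h => by simp [seeds] at h
  | w :: ws, hlow, j, h => by
    change Nat.testBit (_ ||| seeds ws) j = true at h
    rw [Nat.testBit_or, Bool.or_eq_true] at h
    rcases h with h | h
    · refine ⟨w, List.mem_cons_self, ?_⟩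
      rw [Vec.testBit_applyNet (Rep.netOk_netW small_valid w)] at h
      change Nat.testBit (1 <<< HNIndexSmall.base) _ = true at h
      rw [Nat.testBit_shiftLeft, Bool.and_eq_true, decide_eq_true_eq] at h
      rw [small_apply (hlow w List.mem_cons_self)]
      have h1 := VCert.one_bit h.2
      have h2 := h.1
      omega
    · obtain ⟨v, hv, he⟩ := seeds_spec (fun v hv => hlow v (List.mem_cons_of_mem _ hv)) j h
      exact ⟨v, List.mem_cons_of_mem _ hv, he⟩

theorem grow_spec {ws : List (List ℕ)} (hlow : ∀ w ∈ ws, low w = true) : ∀ (n S : ℕ) (j : Fin rep.N),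
    (grow rep ws n S).testBit j = true → ∃ g ∈ gen ws, S.testBit (small g j : ℕ) = true
  | 0, S, j, h => ⟨1, one_mem _, by simpa [grow] using h⟩
  | n + 1, S, j, h => by
    rw [grow, Vec.force_eq] at h
    obtain ⟨g, hg, hg'⟩ := grow_spec hlow n _ j h
    suffices hs : ∀ l : List (List ℕ), (∀ w ∈ l, w ∈ ws) → ∀ S : ℕ, ∀ i : Fin rep.N,
        (growStep rep l S).testBit i = true → ∃ g ∈ gen ws, S.testBit (small g i : ℕ) = true by
      obtain ⟨g', hgm, hge⟩ := hs ws (fun w h => h) S _ hg'
      exact ⟨g' * g, (gen ws).mul_mem hgm hg, by rw [map_mul, Equiv.Perm.mul_apply]; exact hge⟩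
    intro l
    induction l with
    | nil => exact fun _ S i hi => ⟨1, one_mem _, by simpa [growStep] using hi⟩
    | cons w l ih =>
      intro hsub S i hi
      obtain ⟨g1, hg1, he1⟩ := ih (fun v hv => hsub v (List.mem_cons_of_mem _ hv)) _ i hi
      change Nat.testBit (S ||| _) _ = true at he1
      rw [Nat.testBit_or, Bool.or_eq_true] at he1
      rcases he1 with he1 | he1
      · exact ⟨g1, hg1, he1⟩
      · refine ⟨evW HNxyz.ev w * g1, (gen ws).mul_mem (mem_gen (hsub w List.mem_cons_self)) hg1, ?_⟩
        rw [Vec.testBit_applyNet (Rep.netOk_netW small_valid w)] at he1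
        rw [map_mul, Equiv.Perm.mul_apply, small_apply (hlow w (hsub w List.mem_cons_self))]
        exact he1

end CfsgLib.Presented.HNIndex
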