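import Cfsg.Agent.Lib.Presented.HNIndex.Steps
import Mathlib.LinearAlgebra.Matrix.Trace

/-!
An invariant of double cosets: the traces, in the representation of dimension 133, of a product of two
conjugate involutions and of its square.
-/
set_option autoImplicit false
set_option maxRecDepth 8000

namespace CfsgLib.Presented.MatCheck

/-- the trace modulo `p` of a product of the matrices -/
noncomputable def traceK (N p sb : ℕ) (idx : ATree ℕ) (gens : List Rows) (w : List ℕ) : ℕ :=
  Vec.force (sb * w.length + 10) fun W =>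
    mapK (fun i => (2 ^ W) ^ i) idx fun T0 =>
      runK gens T0 w fun T =>
        ((List.range N).map fun i => T.get i / (2 ^ W) ^ i % 2 ^ W).sum % p

theorem traceK_spec {N p sb : ℕ} [NeZero p] {idx : ATree ℕ} {gens : List Rows}
    (hd : dataOK N sb idx gens = true) {w : List ℕ} (hw : ∀ x ∈ w, x < gens.length) :
    ((w.map (mat N p gens)).prod).trace = (traceK N p sb idx gens w : ZMod p) := by
  set W := sb * w.length + 10 with hW
  have hidx : ∀ i : Fin N, (mapT (fun i => (2 ^ W) ^ i) idx).get i = (2 ^ W) ^ (i : ℕ) := by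
    intro i
    rw [get_mapT]
    simp only [dataOK, Bool.and_eq_true, List.all_eq_true, List.mem_range] at hd
    rw [Nat.eq_of_beq_eq_true (hd.1 i i.2)]
  have hrun := runT_spec hd hidx w hw
  have hlt : (2 ^ sb) ^ w.length < 2 ^ W := by
    rw [← pow_mul]
    exact Nat.pow_lt_pow_right (by norm_num) (by omega)
  have hdiag : ∀ i : Fin N, (runT gens (mapT (fun i => (2 ^ W) ^ i) idx) w).get i / (2 ^ W) ^ (i : ℕ) % 2 ^ W
      = natProd N gens w i i := by
    intro i
    rw [(hrun i).1]
    let f : ℕ → ℕ := fun k => if h : k < N then natProd N gens w i ⟨k, h⟩ else 0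
    have e : ∑ k : Fin N, natProd N gens w i k * (2 ^ W) ^ (k : ℕ) = ∑ k ∈ Finset.range N, f k * (2 ^ W) ^ k := by
      rw [← Fin.sum_univ_eq_sum_range (fun k => f k * (2 ^ W) ^ k)]
      exact Finset.sum_congr rfl fun k _ => by simp [f]
    rw [e, digit_sum _ N f i (fun k hk => ?_) i.2]
    · simp [f]
    · simp only [f, dif_pos hk]
      exact lt_of_le_of_lt ((Finset.single_le_sum (f := fun k => natProd N gens w i k) (fun _ _ => Nat.zero_le _)
        (Finset.mem_univ (⟨k, hk⟩ : Fin N))).trans (hrun i).2) hlt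
  have hmap : (w.map (mat N p gens)).prod = (Nat.castRingHom (ZMod p)).mapMatrix (natProd N gens w) := by
    rw [natProd, map_list_prod, List.map_map]
    rfl
  rw [hmap, traceK]
  simp only [Vec.force_eq, mapK_eq, runK_eq]
  rw [ZMod.natCast_mod]
  have hs : ((List.range N).map fun i => (runT gens (mapT (fun i => (2 ^ W) ^ i) idx) w).get i / (2 ^ W) ^ i % 2 ^ W).sum
      = ∑ i : Fin N, natProd N gens w i i := by
    rw [show ((List.range N).map fun i => (runT gens (mapT (fun i => (2 ^ W) ^ i) idx) w).get i / (2 ^ W) ^ i % 2 ^ W).sum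
        = ∑ i ∈ Finset.range N, (runT gens (mapT (fun i => (2 ^ W) ^ i) idx) w).get i / (2 ^ W) ^ i % 2 ^ W from rfl,
      ← Fin.sum_univ_eq_sum_range (fun i => (runT gens (mapT (fun i => (2 ^ W) ^ i) idx) w).get i / (2 ^ W) ^ i % 2 ^ W)]
    exact Finset.sum_congr rfl fun i _ => hdiag i
  rw [hs, Nat.cast_sum]
  rfl

end CfsgLib.Presented.MatCheck

namespace CfsgLib.Presented.HNIndex

open HNxyz (lettersHN rho T psi)
open MatCheck

theorem rho_evH {w : List ℕ} (hw : ∀ x ∈ w, x < 8) :
    (rho (evW evH w) : Matrix (Fin 133) (Fin 133) (ZMod 11)) = (w.map (mat 133 11 HNMat.gens)).prod := by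
  rw [evW, map_list_prod, ← Units.coeHom_apply, map_list_prod, List.map_map, List.map_map]
  refine congrArg List.prod (List.map_congr_left fun x hx => ?_)
  have h8 := hw x hx
  have hgen : ∀ g, rho (PresentedGroup.of g) = HNxyz.imgHN g := fun g => PresentedGroup.toGroup.of _
  have hinv : ∀ g, rho (PresentedGroup.of g)⁻¹ = (HNxyz.imgHN g)⁻¹ := fun g => by rw [map_inv, hgen]
  simp only [Function.comp_apply, Units.coeHom_apply]
  interval_cases x
  · exact congrArg Units.val (hgen .x)
  · exact congrArg Units.val (hinv .x)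
  · exact congrArg Units.val (hgen .y)
  · exact congrArg Units.val (hinv .y)
  · exact congrArg Units.val (hgen .z)
  · exact congrArg Units.val (hinv .z)
  · exact congrArg Units.val (hgen .t)
  · exact congrArg Units.val (hinv .t)

/-- the conjugate of the central involution times the involution -/
noncomputable def cElt (g : Cfsg.Spor.HN) : Cfsg.Spor.HN := g * HNxyz.hX ^ 2 * g⁻¹ * HNxyz.hX ^ 2

theorem sq_comm {n : Cfsg.Spor.HN} (hn : n ∈ HNxyz.N) : n * HNxyz.hX ^ 2 = HNxyz.hX ^ 2 * n := by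
  obtain ⟨a, rfl⟩ := hn
  rw [← HNxyz.psi_gens.1, ← map_pow, ← map_mul, ← map_mul, Subgroup.mem_center_iff.1 HNxyz.sq_central a]

/-- the invariant -/
noncomputable def inv2 (g : Cfsg.Spor.HN) : ZMod 11 × ZMod 11 :=
  ((rho (cElt g) : Matrix (Fin 133) (Fin 133) (ZMod 11)).trace,
    (rho (cElt g * cElt g) : Matrix (Fin 133) (Fin 133) (ZMod 11)).trace)

theorem inv2_double {g m n : Cfsg.Spor.HN} (hn : n ∈ HNxyz.N) (hm : m ∈ HNxyz.N) : inv2 (n * g * m) = inv2 g := by
  have hc : cElt (n * g * m) = n * cElt g * n⁻¹ := by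
    have e1 := sq_comm hm
    have e2 := sq_comm hn
    simp only [cElt]
    calc n * g * m * HNxyz.hX ^ 2 * (n * g * m)⁻¹ * HNxyz.hX ^ 2
        = n * g * (m * HNxyz.hX ^ 2) * m⁻¹ * g⁻¹ * n⁻¹ * HNxyz.hX ^ 2 := by group
      _ = n * (g * HNxyz.hX ^ 2 * g⁻¹) * (n⁻¹ * HNxyz.hX ^ 2) := by rw [e1]; group
      _ = n * (g * HNxyz.hX ^ 2 * g⁻¹) * (HNxyz.hX ^ 2 * n⁻¹) := by
          rw [eq_mul_inv_of_mul_eq (show n⁻¹ * HNxyz.hX ^ 2 * n = HNxyz.hX ^ 2 by rw [mul_assoc, ← e2]; group)]
      _ = n * (g * HNxyz.hX ^ 2 * g⁻¹ * HNxyz.hX ^ 2) * n⁻¹ := by group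
  have hc2 : n * cElt g * n⁻¹ * (n * cElt g * n⁻¹) = n * (cElt g * cElt g) * n⁻¹ := by group
  simp only [inv2, hc, hc2, map_mul rho, map_inv rho, Units.val_mul, Matrix.trace_units_conj]

/-- the word of the conjugate times the involution -/
noncomputable def cWord (w : List ℕ) : List ℕ := w ++ [0, 0] ++ invWord lettersHN.A w ++ [0, 0]

/-- the invariant of a word -/
noncomputable def invK (w : List ℕ) : ℕ × ℕ :=
  (traceK 133 11 HNMat.sb HNMat.idx HNMat.gens (cWord w),
    traceK 133 11 HNMat.sb HNMat.idx HNMat.gens (cWord w ++ cWord w))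

theorem inv2_word {w : List ℕ} (hw : (w.all fun x => Nat.blt x 8) = true) :
    inv2 (evW evH w) = (((invK w).1 : ZMod 11), ((invK w).2 : ZMod 11)) := by
  simp only [List.all_eq_true, Nat.blt_eq] at hw
  have hi : ∀ x ∈ invWord lettersHN.A w, x < 8 := by
    intro x hx
    simp only [invWord, List.mem_reverse, List.mem_map] at hx
    obtain ⟨z, hz, rfl⟩ := hx
    have h8 : ∀ z, z < 8 → lettersHN.A.invl z < 8 := by decide +kernel
    exact h8 z (hw z hz)
  have hcw : ∀ x ∈ cWord w, x < 8 := by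
    intro x hx
    simp only [cWord, List.mem_append, List.mem_cons, List.not_mem_nil, or_false] at hx
    rcases hx with ((h | rfl | rfl) | h) | rfl | rfl
    all_goals first
      | exact hw x h
      | exact hi x h
      | norm_num
  have he : cElt (evW evH w) = evW evH (cWord w) := by
    have h00 : evW evH [0, 0] = HNxyz.hX ^ 2 := by
      rw [evW_cons, evW_cons, evW_nil, mul_one, pow_two]
      rfl
    rw [cWord, evW_append, evW_append, evW_append, evW_invWord evH_good (fun x hx => (hw x hx).le), h00]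
    rfl
  have hlen : HNMat.gens.length = 8 := by decide +kernel
  have hcw2 : ∀ x ∈ cWord w ++ cWord w, x < 8 := fun x hx => (List.mem_append.1 hx).elim (hcw x) (hcw x)
  simp only [inv2, invK, he, ← evW_append, rho_evH hcw, rho_evH hcw2,
    traceK_spec HNxyz.mat_data_ok (fun x hx => hlen ▸ hcw x hx),
    traceK_spec HNxyz.mat_data_ok (fun x hx => hlen ▸ hcw2 x hx)]

end CfsgLib.Presented.HNIndex
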