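import Cfsg.Agent.Lib.Presented.HNIndex.Upper
import Cfsg.Agent.Lib.Presented.HNIndex.Trace

/-!
The subgroup on x, y, z of the presented Harada-Norton group has exactly 1539000 cosets: the nine named
points lie in different orbits, and their stabilisers are no larger than the recorded ones.
-/
set_option autoImplicit false
set_option maxRecDepth 8000

namespace CfsgLib.Presented.HNIndex

open HNxyz (T psi)
open HNIndexSmall (rep base)
open HNIndexEvents (gw state12)
open HNIndexChains (chains)

/-- the invariants of the nine named points -/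
def invs : List (ℕ × ℕ) := [(1, 1), (4, 4), (7, 7), (10, 1), (1, 10), (3, 3), (3, 7), (5, 1), (5, 5)]

theorem invs_ok : (Nat.beq gw.length 9 && (List.range 9).all (fun i => (gw.getD i []).all (fun x => Nat.blt x 8) &&
    Nat.beq (invK (gw.getD i [])).1 (invs.getD i (0, 0)).1 &&
    Nat.beq (invK (gw.getD i [])).2 (invs.getD i (0, 0)).2)) = true := by decide +kernel

theorem invs_inj : ∀ i < 9, ∀ j < 9, (((invs.getD i (0, 0)).1 : ZMod 11), ((invs.getD i (0, 0)).2 : ZMod 11)) =
    (((invs.getD j (0, 0)).1 : ZMod 11), ((invs.getD j (0, 0)).2 : ZMod 11)) → i = j := by decide +kernel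

/-- The named points lie in different orbits. -/
theorem points_distinct {i j : ℕ} (hi : i < 9) (hj : j < 9) {n : T} (h : psi n • P i = P j) : i = j := by
  have hok := invs_ok
  simp only [Bool.and_eq_true, List.all_eq_true, List.mem_range] at hok
  have hinv : ∀ k, k < 9 → inv2 (evW evH (gw.getD k [])) =
      (((invs.getD k (0, 0)).1 : ZMod 11), ((invs.getD k (0, 0)).2 : ZMod 11)) := fun k hk => by
    obtain ⟨⟨h1, h2⟩, h3⟩ := hok.2 k hk
    rw [inv2_word (List.all_eq_true.2 h1), Nat.eq_of_beq_eq_true h2, Nat.eq_of_beq_eq_true h3]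
  refine invs_inj i hi j hj ?_
  rw [← hinv i hi, ← hinv j hj]
  simp only [P, pnt, x0, smul_smul, MulAction.Quotient.smul_coe, smul_eq_mul, mul_one] at h
  rw [QuotientGroup.eq] at h
  have e : evW evH (gw.getD j []) = psi n * evW evH (gw.getD i []) *
      ((psi n * evW evH (gw.getD i []))⁻¹ * evW evH (gw.getD j [])) := by group
  rw [e, inv2_double ⟨n, rfl⟩ h]

/-- For each orbit but the first: the defining edge, its source, and the point it starts from in the action
of degree 1408. -/
def parents : List (ℕ × ℕ × ℕ) :=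
  [(0, 0, 0), (6, 1, 6), (11, 1, 45), (15, 1, 185), (32, 1, 917), (46, 3, 47), (86, 6, 9), (89, 4, 330)]

/-- the words on the target side of the edges into point `j` -/
noncomputable def msAt (j : ℕ) : List (List ℕ) := (state12.edges.filter fun e => Nat.beq e.j j).map Edge.m

/-- the orbit of the base point under the fixing elements of `j` -/
noncomputable def orbJ (j : ℕ) : ℕ := grow rep (loopsAt j) 30 (Nat.shiftLeft 1 base)

/-- the orbit of the point `p` under the fixing elements of `i` -/
noncomputable def orbP (i p : ℕ) : ℕ := grow rep (loopsAt i) 30 (Nat.shiftLeft 1 p)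

/-- the checks bounding the stabiliser of point `j` by that of its parent -/
noncomputable def parentOK (q : ℕ) : Bool :=
  match parents.getD q (0, 0, 0) with
  | (a, i, p) =>
    match state12.edges[a]? with
    | none => false
    | some e =>
      Nat.beq e.i i && Nat.beq e.j (q + 1) && listEq e.m [] && Nat.blt i (q + 1) &&
        (Vec.applyNet (rep.netW e.u) (Nat.shiftLeft 1 base)).testBit p &&
        orbitOK rep (loopsAt i) p 30 (orbP i p) && orbitOK rep (loopsAt (q + 1)) base 30 (orbJ (q + 1)) &&
        (loopsAt i).all low && (loopsAt (q + 1)).all low && (msAt (q + 1)).all low &&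
        Nat.beq (grow rep (loopsAt (q + 1)) 30 (seeds (msAt (q + 1)))) (Vec.ones rep.N) &&
        (state12.edges.all fun b => !(Nat.beq b.i i && Nat.beq b.j (q + 1)) ||
          Nat.beq (Nat.land (seeds [b.u]) (orbP i p)) 0 || !Nat.beq (Nat.land (seeds [b.m]) (orbJ (q + 1))) 0) &&
        Nat.beq (bitCount (orbP i p) rep.N * sizes.getD i 0) (bitCount (orbJ (q + 1)) rep.N * sizes.getD (q + 1) 0)

theorem parents_ok : (List.range 8).all parentOK = true := by decide +kernel

/-- the stabiliser of a named point -/
noncomputable def stabT (i : ℕ) : Subgroup T := (MulAction.stabilizer Cfsg.Spor.HN (P i)).comap psi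

theorem mem_stabT {i : ℕ} {n : T} : n ∈ stabT i ↔ psi n • P i = P i := Iff.rfl

theorem gen_le_stab {i : ℕ} (hlow : (loopsAt i).all low = true) : gen (loopsAt i) ≤ stabT i :=
  fun _ hg => loops_fix hlow hg

/-- a bit of the seed of one word -/
theorem seed_iff {w : List ℕ} (hw : low w = true) (j : Fin rep.N) :
    (seeds [w]).testBit j = true ↔ small (evW HNxyz.ev w) j = bp := by
  show Nat.testBit (Vec.applyNet (rep.netW w) (1 <<< base) ||| 0) j = true ↔ _
  rw [Nat.or_zero, Vec.testBit_applyNet (Rep.netOk_netW small_valid w), Nat.testBit_shiftLeft, Bool.and_eq_true,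
    decide_eq_true_eq]
  constructor
  · rintro ⟨h1, h2⟩
    refine Fin.ext ?_
    rw [small_apply hw]
    have := VCert.one_bit h2
    show _ = base
    omega
  · intro h
    have h' := congrArg Fin.val h
    rw [small_apply hw] at h'
    have hb : Vec.netPerm (rep.netW w) j = base := h'
    simp [hb]

/-- The stabilisers have the recorded orders. -/
theorem card_stab : ∀ i, i < 9 → Nat.card (stabT i) * sizes.getD i 0 ≤ 177408000 := by
  haveI := HNxyz.finite_T
  letI : MulAction T (Fin rep.N) := MulAction.compHom (Fin rep.N) small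
  intro i
  induction i using Nat.strong_induction_on with
  | _ j ih =>
    intro hj
    rcases Nat.eq_zero_or_pos j with rfl | hpos
    · rw [show sizes.getD 0 0 = 1 from rfl, mul_one, ← HNxyz.card_T]
      exact Subgroup.card_le_card_group _
    obtain ⟨q, rfl⟩ : ∃ q, j = q + 1 := ⟨j - 1, by omega⟩
    have hok := List.all_eq_true.1 parents_ok q (List.mem_range.2 (by omega))
    unfold parentOK at hok
    generalize parents.getD q (0, 0, 0) = pr at hok
    obtain ⟨a, i, p⟩ := pr
    simp only at hok
    split at hok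
    · exact absurd hok (by simp)
    rename_i e he
    simp only [Bool.and_eq_true] at hok
    obtain ⟨⟨⟨⟨⟨⟨⟨⟨⟨⟨⟨⟨hei, hej⟩, hem⟩, hilt⟩, hp⟩, hoP⟩, hoJ⟩, hli⟩, hlj⟩, hlm⟩, hcov⟩, hsep⟩, hcount⟩ := hok
    rw [Nat.blt_eq] at hilt
    have hi9 : i < 9 := by omega
    have hmemE : e ∈ state12.edges := List.mem_of_getElem? he
    have hte := List.all_eq_true.1 targets_ok e hmemE
    simp only [Bool.and_eq_true, Nat.blt_eq] at hte
    have hedge := all_hold.edges e hmemE
    rw [Nat.eq_of_beq_eq_true hei, Nat.eq_of_beq_eq_true hej, listEq_eq hem, evW_nil, one_smul] at hedge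
    change evH 6 • evW evH e.u • P i = P (q + 1) at hedge
    -- equality at the parent
    have hgi : gen (loopsAt i) = stabT i := by
      refine Subgroup.eq_of_le_of_card_ge (gen_le_stab hli) ?_
      have h1 := ih i hilt hi9
      have h2 := index_loops hi9
      have h3 := (gen (loopsAt i)).card_mul_index
      rw [HNxyz.card_T] at h3
      have h4 : 0 < sizes.getD i 0 := lt_of_lt_of_le (Nat.pos_of_ne_zero Subgroup.index_ne_zero_of_finite) h2
      refine Nat.le_of_mul_le_mul_right (h1.trans ?_) h4
      rw [← h3]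
      exact Nat.mul_le_mul_left _ h2
    -- the point p is the preimage of the base point
    have hp' : p < rep.N := by
      simp only [orbitOK, Bool.and_eq_true, Nat.blt_eq] at hoP
      exact hoP.1.1
    set v := evW HNxyz.ev e.u with hv
    have hvp : small v ⟨p, hp'⟩ = bp := (seed_iff hte.1.2 ⟨p, hp'⟩).1 (by
      show Nat.testBit (Vec.applyNet (rep.netW e.u) (1 <<< base) ||| 0) p = true
      rw [Nat.or_zero]; exact hp)
    -- the orbit of the base point under the stabiliser
    have horbJ := orbit_eq_of_ok small_valid hoJ small small_ev (H := gen (loopsAt (q + 1))) rfl bp.2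
    have horbP := orbit_eq_of_ok small_valid hoP small small_ev (H := gen (loopsAt i)) rfl hp'
    have hsub : ∀ h ∈ stabT (q + 1), (orbJ (q + 1)).testBit (small h bp : ℕ) = true := by
      intro h hh
      have hbit : (grow rep (loopsAt (q + 1)) 30 (seeds (msAt (q + 1)))).testBit (small h bp : ℕ) = true := by
        rw [Nat.eq_of_beq_eq_true hcov, Vec.testBit_ones]
        exact decide_eq_true (small h bp).2
      obtain ⟨s, hs, hsd⟩ := grow_spec (fun w hw => List.all_eq_true.1 hlj w hw) _ _ _ hbit
      obtain ⟨m, hm, hmb⟩ := seeds_spec (fun w hw => List.all_eq_true.1 hlm w hw) _ hsd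
      obtain ⟨b, hb, rfl⟩ := List.mem_map.1 hm
      rw [List.mem_filter] at hb
      have hbj : b.j = q + 1 := Nat.eq_of_beq_eq_true hb.2
      have htb := List.all_eq_true.1 targets_ok b hb.1
      simp only [Bool.and_eq_true, Nat.blt_eq] at htb
      set k := evW HNxyz.ev b.m * s * h with hk
      have hkC : k ∈ gen cGens := stab_eq (Fin.ext (by
        rw [hk, map_mul, Equiv.Perm.mul_apply, map_mul, Equiv.Perm.mul_apply]
        exact hmb))
      have hsfix : psi s • P (q + 1) = P (q + 1) := loops_fix hlj hs
      have hhfix : psi h • P (q + 1) = P (q + 1) := hh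
      have hedgeb := all_hold.edges b hb.1
      rw [hbj] at hedgeb
      have hchain : evH 6 • (psi k * psi v) • P i = evH 6 • evW evH b.u • pnt gw b.i := by
        rw [hedgeb, smul_smul, ← mul_assoc, ← (cW_comm_T hkC).eq, mul_assoc, mul_smul, mul_smul, hv,
          psi_evT hte.1.2, hedge, hk, map_mul, map_mul, mul_smul, mul_smul, hhfix, hsfix, psi_evT htb.2]
      have hpt : psi ((evW HNxyz.ev b.u)⁻¹ * k * v) • P i = P b.i := by
        rw [map_mul, map_mul, map_inv, mul_assoc, mul_smul, smul_left_cancel _ hchain, psi_evT htb.1.2,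
          inv_smul_smul]
      have hbi9 : b.i < 9 := by
        by_contra hge
        have hlen : ∀ e ∈ state12.edges, e.i < 9 := by
          have h9 : (state12.edges.all fun e => Nat.blt e.i 9) = true := by decide +kernel
          simpa [List.all_eq_true] using h9
        exact hge (hlen b hb.1)
      have hbi : i = b.i := points_distinct hi9 hbi9 hpt
      rw [← hbi] at hpt
      have hg : (evW HNxyz.ev b.u)⁻¹ * k * v ∈ gen (loopsAt i) := hgi ▸ hpt
      have hqbit := (horbP (small ((evW HNxyz.ev b.u)⁻¹ * k * v) ⟨p, hp'⟩)).1 ⟨_, hg, rfl⟩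
      have hkfix : small k bp = bp := by
        rw [hk, map_mul, Equiv.Perm.mul_apply, map_mul, Equiv.Perm.mul_apply]
        exact Fin.ext hmb
      have hub : small (evW HNxyz.ev b.u) (small ((evW HNxyz.ev b.u)⁻¹ * k * v) ⟨p, hp'⟩) = bp := by
        rw [map_mul, Equiv.Perm.mul_apply, hvp, map_mul, Equiv.Perm.mul_apply, hkfix, map_inv]
        exact Equiv.apply_symm_apply _ _
      have h1 := (seed_iff htb.1.2 _).2 hub
      have hcond := List.all_eq_true.1 hsep b hb.1
      simp only [Bool.or_eq_true, Bool.not_eq_true', Bool.and_eq_false_iff] at hcond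
      rcases hcond with (hc | hc) | hc
      · exfalso
        rcases hc with hc | hc
        · exact Nat.ne_of_beq_eq_false hc hbi.symm
        · exact Nat.ne_of_beq_eq_false hc hbj
      · exfalso
        have h0 : seeds [b.u] &&& orbP i p = 0 := Nat.eq_of_beq_eq_true hc
        have := congrArg (fun x => x.testBit (small ((evW HNxyz.ev b.u)⁻¹ * k * v) ⟨p, hp'⟩ : ℕ)) h0
        simp only [Nat.testBit_and, h1, hqbit, Nat.zero_testBit, Bool.and_self] at this
        exact Bool.noConfusion this
      · -- the seed meets the orbit, hence so does the image of the base point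
        have hne : seeds [b.m] &&& orbJ (q + 1) ≠ 0 := fun h0 => by
          rw [show Nat.land (seeds [b.m]) (orbJ (q + 1)) = 0 from h0] at hc
          simp at hc
        obtain ⟨r, hr⟩ := Nat.exists_testBit_of_ne_zero hne
        rw [Nat.testBit_and, Bool.and_eq_true] at hr
        have hr0 : r < rep.N := by
          by_contra hge
          have hO : orbJ (q + 1) < 2 ^ rep.N := by
            have hall : ((List.range 9).all fun j => Nat.blt (orbJ j) (2 ^ rep.N)) = true := by decide +kernel
            have := List.all_eq_true.1 hall (q + 1) (List.mem_range.2 (by omega))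
            rwa [Nat.blt_eq] at this
          rw [Nat.testBit_lt_two_pow (lt_of_lt_of_le hO (Nat.pow_le_pow_right (by norm_num) (by omega)))] at hr
          simp at hr
        obtain ⟨g, hg', hgr⟩ := (horbJ ⟨r, hr0⟩).2 hr.2
        have hr1 : small (evW HNxyz.ev b.m) ⟨r, hr0⟩ = bp := (seed_iff htb.2 ⟨r, hr0⟩).1 hr.1
        refine (horbJ (small h bp)).1 ⟨s⁻¹ * g, (gen _).mul_mem ((gen _).inv_mem hs) hg', ?_⟩
        have hr2 : small s (small h bp) = ⟨r, hr0⟩ := by
          apply (small (evW HNxyz.ev b.m)).injective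
          rw [hr1]; exact Fin.ext hmb
        rw [map_mul, Equiv.Perm.mul_apply, hgr, ← hr2, map_inv]
        exact Equiv.symm_apply_apply _ _
    -- count
    let K := stabT (q + 1)
    let S := MulAction.stabilizer K bp
    have hidx : S.index ≤ bitCount (orbJ (q + 1)) rep.N := by
      rw [MulAction.index_stabilizer, bitCount_eq, ← Set.ncard_coe_finset]
      refine Set.ncard_le_ncard_of_injOn (fun x => (x : ℕ)) ?_ (fun x _ y _ h => Fin.ext h) (Finset.finite_toSet _)
      rintro x ⟨⟨h, hh⟩, rfl⟩
      simp only [Finset.coe_filter, Finset.mem_range]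
      exact ⟨(small h bp).2, hsub h hh⟩
    let Si := MulAction.stabilizer (gen (loopsAt i)) (⟨p, hp'⟩ : Fin rep.N)
    have hSi : Si.index = bitCount (orbP i p) rep.N := by
      rw [MulAction.index_stabilizer, bitCount_eq, ← Set.ncard_coe_finset]
      refine Set.ncard_congr (fun x _ => (x : ℕ)) ?_ (fun x y _ _ h => Fin.ext h) ?_
      · rintro x ⟨⟨h, hh⟩, rfl⟩
        simp only [Finset.coe_filter, Finset.mem_range]
        exact ⟨(small h ⟨p, hp'⟩).2, (horbP _).1 ⟨h, hh, rfl⟩⟩
      · intro x hx
        simp only [Finset.coe_filter, Finset.mem_range] at hx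
        obtain ⟨g, hg, hge⟩ := (horbP ⟨x, hx.1⟩).2 hx.2
        exact ⟨⟨x, hx.1⟩, ⟨⟨g, hg⟩, hge⟩, rfl⟩
    have hmap : ∀ h : S, v⁻¹ * (h.1.1 : T) * v ∈ gen (loopsAt i) ∧
        small (v⁻¹ * (h.1.1 : T) * v) ⟨p, hp'⟩ = ⟨p, hp'⟩ := by
      rintro ⟨⟨h, hh⟩, hfix⟩
      have hfix' : small h bp = bp := hfix
      have hC : h ∈ gen cGens := stab_eq hfix'
      refine ⟨?_, ?_⟩
      · rw [hgi, mem_stabT, map_mul, map_mul, map_inv, mul_smul, mul_smul, inv_smul_eq_iff]
        apply smul_left_cancel (evH 6)
        rw [smul_smul, ← (cW_comm_T hC).eq, mul_smul, hv, psi_evT hte.1.2, hedge]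
        exact hh
      · rw [map_mul, Equiv.Perm.mul_apply, map_mul, Equiv.Perm.mul_apply, hvp, hfix', map_inv, ← hvp]
        exact Equiv.symm_apply_apply _ _
    have hcardS : Nat.card S ≤ Nat.card Si := by
      refine Nat.card_le_card_of_injective (fun h => (⟨⟨_, (hmap h).1⟩, (hmap h).2⟩ : Si)) ?_
      intro a b hab
      have e1 : v⁻¹ * (a.1.1 : T) * v = v⁻¹ * (b.1.1 : T) * v := congrArg (fun x : Si => (x.1.1 : T)) hab
      exact Subtype.ext (Subtype.ext (mul_left_cancel (mul_right_cancel e1)))
    have hK := S.card_mul_index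
    have hI := Si.card_mul_index
    have h1 : Nat.card (gen (loopsAt i)) * sizes.getD i 0 ≤ 177408000 := hgi ▸ ih i hilt hi9
    have hc := Nat.eq_of_beq_eq_true hcount
    have hpos : 0 < bitCount (orbP i p) rep.N := hSi ▸ Nat.pos_of_ne_zero Subgroup.index_ne_zero_of_finite
    refine Nat.le_of_mul_le_mul_right ?_ hpos
    calc Nat.card K * sizes.getD (q + 1) 0 * bitCount (orbP i p) rep.N
        = Nat.card S * S.index * sizes.getD (q + 1) 0 * bitCount (orbP i p) rep.N := by rw [hK]
      _ ≤ Nat.card Si * bitCount (orbJ (q + 1)) rep.N * sizes.getD (q + 1) 0 * bitCount (orbP i p) rep.N :=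
          Nat.mul_le_mul_right _ (Nat.mul_le_mul_right _ (Nat.mul_le_mul hcardS hidx))
      _ = Nat.card Si * bitCount (orbP i p) rep.N * sizes.getD i 0 * bitCount (orbP i p) rep.N := by
          rw [mul_assoc (Nat.card Si), ← hc, ← mul_assoc]
      _ = Nat.card (gen (loopsAt i)) * sizes.getD i 0 * bitCount (orbP i p) rep.N := by rw [← hI, hSi]
      _ ≤ 177408000 * bitCount (orbP i p) rep.N := Nat.mul_le_mul_right _ h1

/-- The nine orbits have the recorded lengths. -/
theorem orbit_card {i : ℕ} (hi : i < 9) : (Set.range fun n : T => psi n • P i).ncard = sizes.getD i 0 := by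
  haveI := HNxyz.finite_T
  refine le_antisymm (orbit_le hi) ?_
  letI : MulAction T X := MulAction.compHom X psi
  have hidx : (MulAction.stabilizer T (P i)).index = (Set.range fun n : T => psi n • P i).ncard :=
    MulAction.index_stabilizer T (P i)
  have hcm := (MulAction.stabilizer T (P i)).card_mul_index
  rw [hidx, HNxyz.card_T] at hcm
  have hs := card_stab i hi
  have hpos : 0 < Nat.card (MulAction.stabilizer T (P i)) := Nat.card_pos
  refine Nat.le_of_mul_le_mul_left ?_ hpos
  rw [hcm]
  exact hs

/-- The nine orbits are disjoint. -/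
theorem orbit_disjoint {i j : ℕ} (hi : i < 9) (hj : j < 9) (hij : i ≠ j) :
    Disjoint (Set.range fun n : T => psi n • P i) (Set.range fun n : T => psi n • P j) := by
  rw [Set.disjoint_left]
  rintro _ ⟨a, rfl⟩ ⟨b, hb⟩
  refine hij (points_distinct hi hj (n := b⁻¹ * a) ?_)
  simp only at hb
  rw [map_mul, map_inv, mul_smul, ← hb, inv_smul_smul]

/-- **The index.** -/
theorem index_eq : HNxyz.N.index = 1539000 := by
  haveI := HNxyz.finite_T
  haveI : Finite X := finite_and_card_le.1
  rw [Subgroup.index, ← Set.ncard_univ, ← M_eq, M]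
  have hfin : ∀ i ∈ Finset.range 9, (Set.range fun n : T => psi n • P i).Finite := fun i _ => Set.toFinite _
  have hcard : ∀ n ≤ 9, (⋃ i ∈ Finset.range n, Set.range fun m : T => psi m • P i).ncard =
      ∑ i ∈ Finset.range n, sizes.getD i 0 := by
    intro n
    induction n with
    | zero => intro _; simp
    | succ n ih =>
      intro hn
      rw [Finset.range_add_one, Finset.set_biUnion_insert, Finset.sum_insert Finset.notMem_range_self,
        Set.ncard_union_eq ?_ (Set.toFinite _) (Set.toFinite _), orbit_card (by omega), ih (by omega)]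
      simp only [Set.disjoint_iUnion_right]
      intro i hi
      rw [Finset.mem_range] at hi
      exact orbit_disjoint (by omega) (by omega) (by omega)
  rw [hcard 9 le_rfl]
  decide

/-- Only the coset of the subgroup itself is fixed by it. -/
theorem fix_unique {q : X} (h : ∀ n : T, psi n • q = q) : q = x0 := by
  obtain ⟨i, hi, m, rfl⟩ := mem_M.1 (M_eq ▸ Set.mem_univ q)
  have hall : ∀ n : T, psi n • P i = P i := fun n => by
    have e := h (n * m⁻¹)
    rw [map_mul, map_inv, mul_smul, inv_smul_smul] at e
    exact e.trans (by have := h m⁻¹; rw [map_inv, inv_smul_smul] at this; exact this.symm)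
  have h1 : (Set.range fun n : T => psi n • P i).ncard = 1 := by
    rw [Set.ncard_eq_one]
    refine ⟨P i, Set.eq_singleton_iff_unique_mem.2 ⟨⟨1, hall 1⟩, ?_⟩⟩
    rintro _ ⟨n, rfl⟩
    exact hall n
  rw [orbit_card hi] at h1
  have hs : ∀ i < 9, sizes.getD i 0 = 1 → i = 0 := by decide
  obtain rfl := hs i hi h1
  have hP : P 0 = x0 := by
    have : gw.getD 0 [] = [] := listEq_eq (by decide +kernel)
    show evW evH _ • x0 = x0
    rw [this, evW_nil, one_smul]
  rw [hall m, hP]

end CfsgLib.Presented.HNIndex
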