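import Cfsg.Agent.Lib.Presented.HNIndex.Chain
import Cfsg.Agent.Lib.Presented.Cert.HNIndexChains

/-!
A base of the action of degree 1408, and equality of words tested on it by table lookups.
-/
set_option autoImplicit false
set_option maxRecDepth 8000

namespace CfsgLib.Presented.HNIndex

open HNxyz (T)
open HNIndexSmall (rep base)
open HNIndexChains (chainC tabs)

/-- the generators commuting with the fourth one, as they occur in the chain -/
def cGens : List (List ℕ) :=
  match chainC with
  | [] => []
  | L :: _ => L.gens

/-- the base point of the action of degree 1408 -/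
noncomputable def bp : Fin rep.N := ⟨base, by decide +kernel⟩

theorem cGens_ok : (Nat.beq cGens.length 4 && cGens.all (fun w => low w &&
    (Vec.applyNet (rep.netW w) (Nat.shiftLeft 1 base)).testBit base)) = true := by decide +kernel

theorem chainC_ok : (chainW cGens chainC && Nat.beq (levProd chainC) 126000) = true := by decide +kernel

theorem small_orbit : orbitOK rep [[0], [1], [2], [3], [4]] base 40 (Vec.ones rep.N) = true := by decide +kernel

theorem gen_le_stab_bp : letI : MulAction T (Fin rep.N) := MulAction.compHom (Fin rep.N) small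
    gen cGens ≤ MulAction.stabilizer T bp := by
  letI : MulAction T (Fin rep.N) := MulAction.compHom (Fin rep.N) small
  rw [gen, Subgroup.closure_le]
  rintro _ ⟨w, hw, rfl⟩
  have h := cGens_ok
  simp only [Bool.and_eq_true, List.all_eq_true] at h
  obtain ⟨hlow, hfix⟩ := h.2 w hw
  refine MulAction.mem_stabilizer_iff.2 (Fin.ext ?_)
  show (small (evW HNxyz.ev w) bp : ℕ) = base
  rw [small_apply hlow]
  rw [Vec.testBit_applyNet (Rep.netOk_netW small_valid _)] at hfix
  change Nat.testBit (1 <<< base) _ = true at hfix
  rw [Nat.testBit_shiftLeft, Bool.and_eq_true, decide_eq_true_eq] at hfix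
  have h1 := VCert.one_bit hfix.2
  have h2 := hfix.1
  show Vec.netPerm (rep.netW w) base = base
  omega

theorem card_stab_bp : letI : MulAction T (Fin rep.N) := MulAction.compHom (Fin rep.N) small
    Nat.card (MulAction.stabilizer T bp) = 126000 := by
  haveI := HNxyz.finite_T
  letI : MulAction T (Fin rep.N) := MulAction.compHom (Fin rep.N) small
  have horb : MulAction.orbit T bp = Set.univ := by
    refine Set.eq_univ_of_forall fun j => ?_
    obtain ⟨h, -, he⟩ := (orbit_eq_of_ok small_valid small_orbit small small_ev
      (H := Subgroup.closure ((fun w => evW HNxyz.ev w) '' {w | w ∈ [[0], [1], [2], [3], [4]]})) rfl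
      bp.2 j).2 (by rw [Vec.testBit_ones]; exact decide_eq_true j.2)
    exact ⟨h, he⟩
  have hidx : (MulAction.stabilizer T bp).index = 1408 := by
    rw [MulAction.index_stabilizer, horb, Set.ncard_univ, Nat.card_eq_fintype_card, Fintype.card_fin]
    rfl
  have hcard := (MulAction.stabilizer T bp).card_mul_index
  rw [hidx, HNxyz.card_T] at hcard
  omega

theorem stab_eq {g : T} (hg : small g bp = bp) : g ∈ gen cGens := by
  haveI := HNxyz.finite_T
  letI : MulAction T (Fin rep.N) := MulAction.compHom (Fin rep.N) small
  have h := chainC_ok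
  simp only [Bool.and_eq_true] at h
  have hC := levProd_le _ _ h.1
  rw [Nat.eq_of_beq_eq_true h.2] at hC
  have he : gen cGens = MulAction.stabilizer T bp := Subgroup.eq_of_le_of_card_ge gen_le_stab_bp (card_stab_bp.trans_le hC)
  rw [he]
  exact hg

/-- A chain whose bound is the order of the group names a base. -/
theorem chain_fix : ∀ (Ls : List Level) (gens : List (List ℕ)), chainW gens Ls = true →
    Nat.card (gen gens) = levProd Ls → ∀ g ∈ gen gens,
    (∀ L ∈ Ls, ∀ h : L.point < rep.N, small g ⟨L.point, h⟩ = ⟨L.point, h⟩) → g = 1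
  | [], gens, _, hcard, g, hg, _ => by
    haveI := HNxyz.finite_T
    have h1 : gen gens = ⊥ := Subgroup.eq_bot_of_card_eq _ (by simpa [levProd] using hcard)
    rwa [h1, Subgroup.mem_bot] at hg
  | L :: rest, gens, h, hcard, g, hg, hfixg => by
    haveI := HNxyz.finite_T
    have h' := h
    simp only [chainW, Bool.and_eq_true] at h'
    obtain ⟨⟨⟨⟨hgl, horb⟩, hsize⟩, hnext⟩, hrest⟩ := h'
    simp only [List.all_eq_true, Bool.and_eq_true, List.contains_iff_mem] at hgl hnext
    have hi : L.point < rep.N := by
      simp only [orbitOK, Bool.and_eq_true, Nat.blt_eq] at horb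
      exact horb.1.1
    letI : MulAction T (Fin rep.N) := MulAction.compHom (Fin rep.N) small
    have hle : gen L.gens ≤ gen gens := Subgroup.closure_mono (Set.image_mono fun w hw => (hgl w hw).2)
    have horbit := orbit_eq_of_ok small_valid horb small small_ev (H := gen L.gens) rfl hi
    let S := MulAction.stabilizer (gen gens) (⟨L.point, hi⟩ : Fin rep.N)
    have hidx : L.size ≤ S.index := by
      have hset : ({j : Fin rep.N | L.orb.testBit (j : ℕ) = true}).ncard = L.size := by
        rw [← Nat.eq_of_beq_eq_true hsize, bitCount_eq, ← Set.ncard_coe_finset]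
        refine Set.ncard_congr (fun q _ => (q : ℕ)) ?_ (fun p q _ _ h => Fin.ext h) ?_
        · intro q hq
          simp only [Finset.coe_filter, Finset.mem_range]
          exact ⟨q.2, hq⟩
        · intro k hk
          simp only [Finset.coe_filter, Finset.mem_range] at hk
          exact ⟨⟨k, hk.1⟩, hk.2, rfl⟩
      rw [MulAction.index_stabilizer, ← hset]
      refine Set.ncard_le_ncard ?_ (Set.toFinite _)
      intro j hj
      obtain ⟨a, ha, he⟩ := (horbit j).2 hj
      exact ⟨⟨a, hle ha⟩, he⟩
    have hsub : gen (L.next.map Prod.snd) ≤ S.map (gen gens).subtype := by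
      rw [gen, Subgroup.closure_le]
      rintro _ ⟨w, hw, rfl⟩
      obtain ⟨d, hd, rfl⟩ := List.mem_map.1 hw
      obtain ⟨⟨hidx', hfix⟩, heq⟩ := hnext d hd
      have hlow : low d.2 = true := by simp only [eqN, Bool.and_eq_true] at heq; exact heq.1.1
      have hmem : evW HNxyz.ev d.2 ∈ gen gens := by
        rw [eqN_spec heq]
        exact hle (cat_mem (List.all_eq_true.2 hidx'))
      refine ⟨⟨_, hmem⟩, MulAction.mem_stabilizer_iff.2 (Fin.ext ?_), rfl⟩
      show (small (evW HNxyz.ev d.2) ⟨L.point, hi⟩ : ℕ) = L.point
      rw [small_apply hlow]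
      rw [Vec.testBit_applyNet (Rep.netOk_netW small_valid _)] at hfix
      change Nat.testBit (1 <<< L.point) _ = true at hfix
      rw [Nat.testBit_shiftLeft, Bool.and_eq_true, decide_eq_true_eq] at hfix
      have h1 := VCert.one_bit hfix.2
      have h2 := hfix.1
      simp only
      omega
    have h1 := levProd_le rest _ hrest
    have h2 := Subgroup.card_le_of_le hsub
    rw [Subgroup.card_map_of_injective (gen gens).subtype_injective] at h2
    have h3 := S.card_mul_index
    rw [hcard] at h3
    change Nat.card S * S.index = L.size * levProd rest at h3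
    have hpos : 0 < Nat.card S := Nat.card_pos
    have hszpos : 0 < L.size := by
      rcases Nat.eq_zero_or_pos L.size with h0 | h0
      · rw [h0, zero_mul] at h3
        exact absurd (Nat.mul_eq_zero.1 h3) (by simp [hpos.ne', Subgroup.index_ne_zero_of_finite])
      · exact h0
    have h4 : Nat.card S ≤ levProd rest :=
      Nat.le_of_mul_le_mul_left (show L.size * Nat.card S ≤ L.size * levProd rest by
        refine le_trans ?_ h3.le
        exact (Nat.mul_comm _ _).le.trans (Nat.mul_le_mul_left _ hidx)) hszpos
    have hcnext : Nat.card (gen (L.next.map Prod.snd)) = levProd rest := le_antisymm (h2.trans h4) h1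
    have heq : gen (L.next.map Prod.snd) = S.map (gen gens).subtype :=
      Subgroup.eq_of_le_of_card_ge hsub (by
        rw [Subgroup.card_map_of_injective (gen gens).subtype_injective, hcnext]; exact h4)
    have hgS : g ∈ gen (L.next.map Prod.snd) :=
      heq ▸ ⟨⟨g, hg⟩, MulAction.mem_stabilizer_iff.2 (hfixg L List.mem_cons_self hi), rfl⟩
    exact chain_fix rest _ hrest hcnext g hgS fun M hM => hfixg M (List.mem_cons_of_mem _ hM)

theorem card_cGens : Nat.card (gen cGens) = levProd chainC := by
  haveI := HNxyz.finite_T
  letI : MulAction T (Fin rep.N) := MulAction.compHom (Fin rep.N) small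
  have h := chainC_ok
  simp only [Bool.and_eq_true] at h
  refine le_antisymm ?_ (levProd_le _ _ h.1)
  have hle : gen cGens ≤ MulAction.stabilizer T bp := gen_le_stab_bp
  rw [Nat.eq_of_beq_eq_true h.2, ← card_stab_bp]
  exact Subgroup.card_le_of_le hle

/-- the base -/
def basePts : List ℕ := base :: chainC.map Level.point

/-- the image of a point under a letter, from the tables -/
noncomputable def look (x i : ℕ) : ℕ := Nat.mod (Nat.shiftRight (tabs.getD x 0) (Nat.mul 11 i)) 2048

/-- the image of a point under a word, from the tables -/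
noncomputable def evP : List ℕ → ℕ → ℕ
  | [], p => p
  | x :: w, p => Vec.force (evP w p) fun q => look x q

theorem tabs_ok : ((List.range 6).all fun x => (Vec.slices rep.m).all fun s =>
    Vec.force (Vec.applyNet (rep.net x) s) fun v =>
      (List.range rep.N).all fun i => Nat.blt (look x i) rep.N && (v.testBit i == s.testBit (look x i))) = true := by
  decide +kernel

theorem look_spec {x : ℕ} (hx : x < 6) (i : Fin rep.N) : look x i = (small (HNxyz.ev x) i : ℕ) := by
  have h := tabs_ok
  simp only [List.all_eq_true, List.mem_range, Vec.force_eq, Bool.and_eq_true, Nat.blt_eq, beq_iff_eq] at h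
  rw [small_ev x hx, Rep.perm_val]
  have hm := (Rep.valid_spec small_valid).2.1
  have hlt : look x i < rep.N := by
    obtain ⟨s, hs⟩ : ∃ s, s ∈ Vec.slices rep.m :=
      List.exists_mem_of_ne_nil _ (List.ne_nil_of_length_pos (by rw [(Vec.slices_spec rep.m).1]; decide +kernel))
    exact (h x hx s hs i i.2).1
  refine Vec.eq_of_slices (lt_of_lt_of_le hlt hm)
    (lt_of_lt_of_le ((Rep.netPerm_lt_iff small_valid x i).2 i.2) hm) fun s hs => ?_
  rw [← (h x hx s hs i i.2).2, Vec.testBit_applyNet ((Rep.valid_spec small_valid).2.2.1 x)]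

theorem evP_spec : ∀ {w : List ℕ}, low w = true → ∀ i : Fin rep.N, evP w i = (small (evW HNxyz.ev w) i : ℕ)
  | [], _, i => by simp [evP]
  | x :: w, hw, i => by
    simp only [low, List.all_cons, Bool.and_eq_true, Nat.blt_eq] at hw
    rw [evP, Vec.force_eq, evP_spec hw.2 i, look_spec hw.1, evW_cons, map_mul]
    rfl

/-- equality of two words in the group on x, y, z -/
noncomputable def eqT (a b : List ℕ) : Bool :=
  low a && low b && basePts.all fun p => Nat.beq (evP a p) (evP b p)

theorem eqT_spec {a b : List ℕ} (h : eqT a b = true) : evW HNxyz.ev a = evW HNxyz.ev b := by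
  simp only [eqT, Bool.and_eq_true, List.all_eq_true] at h
  obtain ⟨⟨ha, hb⟩, hp⟩ := h
  have hfix : ∀ p ∈ basePts, ∀ hlt : p < rep.N,
      small ((evW HNxyz.ev b)⁻¹ * evW HNxyz.ev a) ⟨p, hlt⟩ = ⟨p, hlt⟩ := by
    intro p hpm hlt
    have e : small (evW HNxyz.ev a) ⟨p, hlt⟩ = small (evW HNxyz.ev b) ⟨p, hlt⟩ := by
      apply Fin.ext
      rw [← evP_spec ha ⟨p, hlt⟩, ← evP_spec hb ⟨p, hlt⟩]
      exact Nat.eq_of_beq_eq_true (hp p hpm)
    rw [map_mul, Equiv.Perm.mul_apply, e, map_inv]
    exact Equiv.symm_apply_apply _ _
  have h0 := stab_eq (hfix base (List.mem_cons_self) bp.2)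
  have hc := chainC_ok
  simp only [Bool.and_eq_true] at hc
  exact (inv_mul_eq_one.1 (chain_fix _ _ hc.1 card_cGens _ h0 fun L hL hlt =>
    hfix L.point (List.mem_cons_of_mem _ (List.mem_map_of_mem hL)) hlt)).symm

end CfsgLib.Presented.HNIndex
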