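import Cfsg.Agent.Lib.Presented.Cert.HNIndexEvents

/-!
The recorded deductions are valid.
-/
set_option autoImplicit false
set_option Elab.async false
set_option maxRecDepth 8000

namespace CfsgLib.Presented.HNIndex

open HNIndexEvents

theorem run1 : chunkOK gw events1 state0 state1 = true := by decide +kernel

theorem run2 : chunkOK gw events2 state1 state2 = true := by decide +kernel

theorem run3 : chunkOK gw events3 state2 state3 = true := by decide +kernel

theorem run4 : chunkOK gw events4 state3 state4 = true := by decide +kernel

theorem run5 : chunkOK gw events5 state4 state5 = true := by decide +kernel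

theorem run6 : chunkOK gw events6 state5 state6 = true := by decide +kernel

theorem run7 : chunkOK gw events7 state6 state7 = true := by decide +kernel

theorem run8 : chunkOK gw events8 state7 state8 = true := by decide +kernel

theorem run9 : chunkOK gw events9 state8 state9 = true := by decide +kernel

theorem run10 : chunkOK gw events10 state9 state10 = true := by decide +kernel

theorem run11 : chunkOK gw events11 state10 state11 = true := by decide +kernel

theorem run12 : chunkOK gw events12 state11 state12 = true := by decide +kernel

theorem start_holds : Holds gw state0 := by
  refine ⟨fun p hp => ?_, fun e he => absurd he (List.not_mem_nil)⟩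
  simp only [state0, List.mem_cons, List.not_mem_nil, or_false] at hp
  have hp0 : pnt gw 0 = x0 := one_smul _ _
  rcases hp with rfl | rfl | rfl | rfl | rfl <;>
  · show evW evH _ • pnt gw 0 = pnt gw 0
    rw [hp0, x0, MulAction.Quotient.smul_coe, smul_eq_mul, mul_one, QuotientGroup.eq]
    simp only [mul_one, inv_mem_iff]
    exact ⟨evW HNxyz.ev _, psi_evT (by decide +kernel)⟩

theorem all_hold : Holds gw state12 :=
  chunk_sound (chunk_sound (chunk_sound (chunk_sound (chunk_sound (chunk_sound (chunk_sound (chunk_sound (chunk_sound (chunk_sound (chunk_sound (chunk_sound (start_holds) run1) run2) run3) run4) run5) run6) run7) run8) run9) run10) run11) run12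

end CfsgLib.Presented.HNIndex
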