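import Cfsg.Agent.Lib.Presented.HNxyz.SimpleOfIndex
import Cfsg.Agent.Lib.Presented.Cert.HNIndexSmall
import Cfsg.Agent.Lib.Presented.Orbit

/-!
A faithful action of degree 1408 of the group on x, y, z, used to decide equality of words.
-/
set_option autoImplicit false
set_option maxRecDepth 8000

namespace CfsgLib.Presented.HNIndex

open HNxyz (T gx gy gz K sig pi0)
open HNIndexSmall (rep)
open scoped commutatorElement

theorem small_valid : rep.valid = true := by decide +kernel

theorem exists_small : ∃ φ : T →* Equiv.Perm (Fin rep.N),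
    ∀ x, x < HNT.alphabet.eps → φ (HNxyz.ev x) = rep.perm small_valid x :=
  Letters.exists_rep (L := HNxyz.letters) (ws := HNT.relWords) rfl HNxyz.letters_valid HNxyz.nodes_valid HNxyz.full
    HNxyz.relWords_eq small_valid (by decide +kernel)

/-- the action -/
noncomputable def small : T →* Equiv.Perm (Fin rep.N) := exists_small.choose

theorem small_ev : ∀ x, x < HNT.alphabet.eps → small (HNxyz.ev x) = rep.perm small_valid x :=
  exists_small.choose_spec

theorem small_evW {w : List ℕ} (hw : ∀ y ∈ w, y < 6) : small (evW HNxyz.ev w) = evW (rep.perm small_valid) w := by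
  simp only [evW, map_list_prod, List.map_map]
  rw [List.map_congr_left (f := ⇑small ∘ HNxyz.ev) (g := rep.perm small_valid) fun x hx => small_ev x (hw x hx)]

theorem small_sq_ne : small (gx ^ 2) ≠ 1 := by
  have e : (gx ^ 2 : T) = evW HNxyz.ev [0, 0] := by simp [evW, HNxyz.ev_vals.1, pow_two]
  rw [e, small_evW (by decide)]
  intro h
  have hb : (Vec.applyNet (rep.netW [0, 0]) 1).testBit 0 = false := by decide +kernel
  rw [Vec.testBit_applyNet (Rep.netOk_netW small_valid _),
    ← Rep.netW_perm small_valid [0, 0] ⟨0, by decide +kernel⟩, h] at hb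
  simp at hb

theorem small_injective : Function.Injective small := by
  haveI := HNxyz.finite_T
  haveI := HNxyz.P_simple
  rw [injective_iff_map_eq_one]
  have hK : ∀ k ∈ K, small k = 1 → k = 1 := by
    intro k hk hsk
    set A := small.ker.subgroupOf K with hA
    haveI : (A.map sig).Normal := Subgroup.Normal.map inferInstance _ HNxyz.sig_surj
    rcases IsSimpleGroup.eq_bot_or_eq_top_of_normal (A.map sig) inferInstance with h | h
    · have : sig ⟨k, hk⟩ ∈ A.map sig := Subgroup.mem_map_of_mem _ hsk
      rw [h, Subgroup.mem_bot] at this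
      have hk0 : (⟨k, hk⟩ : K) ∈ sig.ker := this
      rw [HNxyz.sig_ker] at hk0
      rcases HNxyz.mem_ker_cases hk0 with rfl | rfl
      · rfl
      · exact absurd hsk small_sq_ne
    · exfalso
      obtain ⟨a, ha, he⟩ : sig ⟨gx, HNxyz.gx_mem⟩ ∈ A.map sig := h ▸ Subgroup.mem_top _
      have hd : a⁻¹ * (⟨gx, HNxyz.gx_mem⟩ : K) ∈ sig.ker := by
        rw [MonoidHom.mem_ker, map_mul, map_inv, he, inv_mul_cancel]
      rw [HNxyz.sig_ker] at hd
      have ha' : small (a : T) = 1 := ha
      rcases HNxyz.mem_ker_cases hd with e | e
      · have e' := congrArg small e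
        change small ((a : T)⁻¹ * gx) = _ at e'
        rw [map_mul, map_inv, ha', inv_one, one_mul, map_one] at e'
        exact small_sq_ne (by rw [map_pow, e', one_pow])
      · have e' := congrArg small e
        change small ((a : T)⁻¹ * gx) = _ at e'
        rw [map_mul, map_inv, ha', inv_one, one_mul, map_pow, pow_two] at e'
        exact small_sq_ne (by rw [map_pow, mul_eq_left.1 e'.symm, one_pow])
  intro g hg
  refine hK g (HNxyz.mem_K_of_commute fun a ha => commutatorElement_eq_one_iff_mul_comm.1 (hK _ ?_ ?_)) hg
  · rw [commutatorElement_def]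
    exact K.mul_mem ((MonoidHom.normal_ker pi0).conj_mem a ha g) (K.inv_mem ha)
  · rw [map_commutatorElement, hg, commutatorElement_one_left]

/-- all letters below six -/
noncomputable def low (w : List ℕ) : Bool := w.all fun y => Nat.blt y 6

theorem low_spec {w : List ℕ} (h : low w = true) : ∀ y ∈ w, y < 6 := fun y hy => by
  have := List.all_eq_true.1 h y hy
  rwa [Nat.blt_eq] at this

/-- equality of two words in the group on x, y, z, tested on all points -/
noncomputable def eqN (a b : List ℕ) : Bool :=
  low a && low b && rep.idOn (rep.netW (a ++ invWord rep.A b))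

theorem eqN_spec {a b : List ℕ} (h : eqN a b = true) : evW HNxyz.ev a = evW HNxyz.ev b := by
  simp only [eqN, Bool.and_eq_true] at h
  obtain ⟨⟨ha, hb⟩, hid⟩ := h
  have hinv : ∀ y ∈ invWord rep.A b, y < 6 := by
    intro y hy
    simp only [invWord, List.mem_reverse, List.mem_map] at hy
    obtain ⟨z, hz, rfl⟩ := hy
    have h6 : ∀ z, z < 6 → rep.A.invl z < 6 := by decide +kernel
    exact h6 z (low_spec hb z hz)
  have hab : ∀ y ∈ a ++ invWord rep.A b, y < 6 := fun y hy =>
    (List.mem_append.1 hy).elim (low_spec ha y) (hinv y)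
  apply small_injective
  have hone : evW (rep.perm small_valid) (a ++ invWord rep.A b) = 1 :=
    Rep.evW_eq_one small_valid (ws := [a ++ invWord rep.A b]) (by
      simp only [Rep.relsOK, List.all_cons, List.all_nil, Bool.and_true, Bool.and_eq_true, hid, and_true,
        List.all_eq_true, Nat.blt_eq]
      exact hab) (List.mem_singleton_self _)
  rw [small_evW (low_spec ha), small_evW (low_spec hb)]
  rw [evW_append, evW_invWord (Rep.perm_good small_valid) (fun y hy => (low_spec hb y hy).le)] at hone
  exact mul_inv_eq_one.1 hone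

/-- The image of a point under a word. -/
theorem small_apply {w : List ℕ} (hw : low w = true) (i : Fin rep.N) :
    (small (evW HNxyz.ev w) i : ℕ) = Vec.netPerm (rep.netW w) i := by
  rw [small_evW (low_spec hw), Rep.netW_perm]

end CfsgLib.Presented.HNIndex
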