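import Cfsg.Agent.Lib.Presented.HNIndex.Fast

/-!
Checkable deductions about the action of the presented Harada-Norton group on the cosets of the subgroup on
x, y, z: each orbit of that subgroup has a named point, and the data record elements fixing it and the
effect of the fourth generator, all as words in x, y, z.
-/
set_option autoImplicit false
set_option maxRecDepth 8000

namespace CfsgLib.Presented.HNIndex

open HNxyz (lettersHN N psi T)
open HNIndexSmall (rep)

/-- use of a known edge: its number, the commuting part and the fixing part -/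
structure App where
  edge : ℕ
  k : List ℕ
  s : List ℕ

/-- the outcome of scanning a relator -/
inductive Concl
  | loop (s : List ℕ)
  | edge (k s u m : List ℕ)

/-- one deduction -/
inductive Ev
  | root (i : ℕ) (u : List ℕ) (j : ℕ)
  | comm (a : ℕ) (k s l : List ℕ)
  | scan (i : ℕ) (n : List ℕ) (r rot lo : ℕ) (fs bs : List App) (c : Concl)

/-- a known edge: `t • u • p i = m • p j` -/
structure Edge where
  i : ℕ
  u : List ℕ
  j : ℕ
  m : List ℕ

/-- what is known: elements fixing points, and edges -/
structure Know where
  loops : List (ℕ × List ℕ)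
  edges : List Edge

/-- generators commuting with the fourth generator -/
def cWords : List (List ℕ) := [[2], [0, 2, 1], [0, 0, 2, 1, 1], [1, 2, 0]]

/-- relations of the whole group that are scanned -/
def relsT : List (List ℕ) := [[4, 6, 4, 6, 4, 6], [6, 0, 0, 6, 1, 1], [6, 6, 0, 0, 0, 6, 1, 1, 1]]

/-- indices of commuting generators -/
noncomputable def kOK (l : List ℕ) : Bool := l.all fun q => Nat.blt q 4

/-- indices of elements fixing point `i` -/
noncomputable def sOK (K : Know) (i : ℕ) (l : List ℕ) : Bool :=
  l.all fun q => Nat.blt q K.loops.length && Nat.beq (K.loops.getD q (0, [])).1 i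

/-- the commuting word -/
noncomputable def kW (l : List ℕ) : List ℕ := cat cWords l

/-- the fixing word -/
noncomputable def sW (K : Know) (l : List ℕ) : List ℕ := cat (K.loops.map Prod.snd) l

/-- one letter applied to a named point -/
noncomputable def step1 (K : Know) (x : ℕ) (apps : List App) (v : ℕ × List ℕ) :
    Option ((ℕ × List ℕ) × List App) :=
  cond (Nat.blt x 6) (some ((v.1, x :: v.2), apps)) <|
    match apps with
    | [] => none
    | a :: rest =>
      match K.edges[a.edge]? with
      | none => none
      | some e =>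
        cond (Nat.beq x 6)
          (cond (Nat.beq e.i v.1 && kOK a.k && sOK K v.1 a.s && eqT v.2 (kW a.k ++ e.u ++ sW K a.s))
            (some ((e.j, kW a.k ++ e.m), rest)) none)
          (cond (Nat.beq x 7 && (Nat.beq e.j v.1 && kOK a.k && sOK K v.1 a.s &&
              eqT v.2 (kW a.k ++ e.m ++ sW K a.s)))
            (some ((e.i, kW a.k ++ e.u), rest)) none)

/-- letters applied from the left of the list onwards -/
noncomputable def run (K : Know) : List ℕ → List App → ℕ × List ℕ → Option (ℕ × List ℕ)
  | [], _, v => some v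
  | x :: xs, apps, v =>
    match step1 K x apps v with
    | none => none
    | some r => run K xs r.2 r.1

/-- one deduction -/
noncomputable def evStep (gw : List (List ℕ)) (K : Know) : Ev → Option Know
  | .root i u j =>
    cond (low u && listEq (gw.getD j []) (6 :: u ++ gw.getD i []))
      (some { K with edges := K.edges ++ [⟨i, u, j, []⟩] }) none
  | .comm a k s l =>
    match K.edges[a]? with
    | none => none
    | some e =>
      cond (kOK k && sOK K e.i s && eqT (kW k ++ e.u) (e.u ++ sW K s) && eqT (e.m ++ l) (kW k ++ e.m))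
        (some { K with loops := K.loops ++ [(e.j, l)] }) none
  | .scan i n r rot lo fs bs c =>
    cond (!Nat.blt r 3) none <|
      match c with
      | .loop s =>
        match run K ((rotW (relsT.getD r []) rot).drop lo).reverse fs (i, n),
          run K (((rotW (relsT.getD r []) rot).take lo).map lettersHN.A.invl) bs (i, n) with
        | some f, some b =>
          cond (Nat.beq f.1 b.1 && eqT (f.2 ++ s) b.2) (some { K with loops := K.loops ++ [(f.1, s)] }) none
        | _, _ => none
      | .edge k s u m =>
        match (rotW (relsT.getD r []) rot).drop lo with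
        | [] => none
        | x :: post =>
          match run K post.reverse fs (i, n),
            run K (((rotW (relsT.getD r []) rot).take lo).map lettersHN.A.invl) bs (i, n) with
          | some f, some b =>
            cond (Nat.beq x 6 && kOK k && sOK K f.1 s && eqT f.2 (kW k ++ u ++ sW K s) && eqT (kW k ++ m) b.2)
              (some { K with edges := K.edges ++ [⟨f.1, u, b.1, m⟩] }) none
          | _, _ => none

/-- several deductions -/
noncomputable def evRun (gw : List (List ℕ)) : List Ev → Know → Option Know
  | [], K => some K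
  | e :: es, K =>
    match evStep gw K e with
    | none => none
    | some K' => evRun gw es K'

/-- equality of edges -/
noncomputable def edgeEq (a b : Edge) : Bool :=
  Nat.beq a.i b.i && listEq a.u b.u && Nat.beq a.j b.j && listEq a.m b.m

/-- equality of lists of edges -/
noncomputable def edgesEq : List Edge → List Edge → Bool
  | [], [] => true
  | a :: as, b :: bs => edgeEq a b && edgesEq as bs
  | _, _ => false

/-- equality of lists of fixing elements -/
noncomputable def loopsEq : List (ℕ × List ℕ) → List (ℕ × List ℕ) → Bool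
  | [], [] => true
  | a :: as, b :: bs => Nat.beq a.1 b.1 && listEq a.2 b.2 && loopsEq as bs
  | _, _ => false

theorem edgesEq_eq : ∀ {a b : List Edge}, edgesEq a b = true → a = b
  | [], [], _ => rfl
  | ⟨i, u, j, m⟩ :: as, ⟨i', u', j', m'⟩ :: bs, h => by
    simp only [edgesEq, edgeEq, Bool.and_eq_true] at h
    obtain ⟨⟨⟨⟨h1, h2⟩, h3⟩, h4⟩, h5⟩ := h
    rw [Nat.eq_of_beq_eq_true h1, listEq_eq h2, Nat.eq_of_beq_eq_true h3, listEq_eq h4, edgesEq_eq h5]
  | [], _ :: _, h => by simp [edgesEq] at h
  | _ :: _, [], h => by simp [edgesEq] at h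

theorem loopsEq_eq : ∀ {a b : List (ℕ × List ℕ)}, loopsEq a b = true → a = b
  | [], [], _ => rfl
  | (i, u) :: as, (i', u') :: bs, h => by
    simp only [loopsEq, Bool.and_eq_true] at h
    obtain ⟨⟨h1, h2⟩, h3⟩ := h
    rw [Nat.eq_of_beq_eq_true h1, listEq_eq h2, loopsEq_eq h3]
  | [], _ :: _, h => by simp [loopsEq] at h
  | _ :: _, [], h => by simp [loopsEq] at h

/-- a chunk of deductions leading from one recorded state to the next -/
noncomputable def chunkOK (gw : List (List ℕ)) (es : List Ev) (K K' : Know) : Bool :=
  match evRun gw es K with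
  | none => false
  | some R => loopsEq R.loops K'.loops && edgesEq R.edges K'.edges

/-! ### Soundness -/

/-- values of the letters -/
noncomputable abbrev evH : ℕ → Cfsg.Spor.HN := lettersHN.ev fun g => PresentedGroup.of g

/-- the cosets -/
abbrev X : Type := Cfsg.Spor.HN ⧸ HNxyz.N

/-- the coset of the subgroup itself -/
noncomputable def x0 : X := ((1 : Cfsg.Spor.HN) : Cfsg.Spor.HN ⧸ HNxyz.N)

theorem psi_evT {w : List ℕ} (hw : low w = true) : psi (evW HNxyz.ev w) = evW evH w := by
  simp only [evW, map_list_prod, List.map_map]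
  refine congrArg List.prod (List.map_congr_left fun x hx => ?_)
  have hx6 := low_spec hw x hx
  obtain ⟨h0, h1, h2, h3, h4, h5⟩ := HNxyz.ev_vals
  rw [Function.comp_apply]
  interval_cases x <;> simp only [h0, h1, h2, h3, h4, h5, map_inv, HNxyz.psi_of] <;> rfl

theorem eqT_low {a b : List ℕ} (h : eqT a b = true) : low a = true ∧ low b = true := by
  simp only [eqT, Bool.and_eq_true] at h
  exact h.1

theorem eqT_H {a b : List ℕ} (h : eqT a b = true) : evW evH a = evW evH b := by
  rw [← psi_evT (eqT_low h).1, ← psi_evT (eqT_low h).2, eqT_spec h]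

theorem evH_rels : ∀ w ∈ lettersHN.coxWords Cfsg.Spor.HN.edges ++ lettersHN.extraWords Cfsg.Spor.HN.extra,
    evW evH w = 1 :=
  Letters.rels_hold HNxyz.lettersHN_valid HNxyz.nodesHN_valid HNxyz.fullHN

theorem evH_good : lettersHN.A.Good evH := by
  refine ⟨Letters.ev_eps (L := lettersHN), fun x hx => ?_⟩
  rcases Nat.eq_or_lt_of_le hx with rfl | h
  · have e : evH lettersHN.A.eps = 1 := Letters.ev_eps (L := lettersHN)
    rw [show lettersHN.A.invl lettersHN.A.eps = lettersHN.A.eps by decide +kernel, e, one_mul]
  · exact Letters.ev_inv HNxyz.lettersHN_valid (Letters.of_sq HNxyz.nodesHN_valid) x h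

theorem evH_inv {x : ℕ} (hx : x < 8) : evH (lettersHN.A.invl x) = (evH x)⁻¹ :=
  eq_inv_of_mul_eq_one_left (evH_good.inv x (show x ≤ 8 from hx.le))

theorem evH_six : evH 7 = (evH 6)⁻¹ := by
  rw [← evH_inv (x := 6) (by norm_num)]
  rfl

theorem evH_one : evH 1 = (evH 0)⁻¹ := by
  rw [← evH_inv (x := 0) (by norm_num)]
  rfl

theorem evH_three : evH 3 = (evH 2)⁻¹ := by
  rw [← evH_inv (x := 2) (by norm_num)]
  rfl

theorem t_facts : evH 6 * evH 2 = evH 2 * evH 6 ∧ (evH 0)⁻¹ * evH 6 * evH 0 * evH 6 ^ 2 = 1 ∧
    (evH 4 * evH 6) ^ 3 = 1 ∧ evH 6 ^ 5 = 1 := by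
  have h := fun w (hw : (lettersHN.extraWords Cfsg.Spor.HN.extra).contains w = true) =>
    evH_rels w (List.mem_append_right _ (List.contains_iff_mem.1 hw))
  refine ⟨?_, ?_, ?_, ?_⟩
  · have := h [7, 3, 6, 2] (by decide +kernel)
    simp only [evW_cons, evW_nil, mul_one, evH_six, evH_three] at this
    calc evH 6 * evH 2 = evH 2 * evH 6 * ((evH 6)⁻¹ * ((evH 2)⁻¹ * (evH 6 * evH 2))) := by group
      _ = evH 2 * evH 6 := by rw [this, mul_one]
  · have := h [1, 6, 0, 6, 6] (by decide +kernel)
    simpa [evW_cons, evH_one, pow_succ, mul_assoc] using this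
  · have := h [4, 6, 4, 6, 4, 6] (by decide +kernel)
    simpa [evW_cons, pow_succ, mul_assoc] using this
  · have := h [6, 6, 6, 6, 6] (by decide +kernel)
    simpa [evW_cons, pow_succ, mul_assoc] using this

theorem conj_square {G : Type*} [Group G] {x t : G} (h1 : x⁻¹ * t * x * t ^ 2 = 1) (h5 : t ^ 5 = 1) :
    x * t * x⁻¹ = t ^ 2 := by
  have e : x⁻¹ * t * x = (t ^ 2)⁻¹ := eq_inv_of_mul_eq_one_left h1
  have e3 : (t ^ 2)⁻¹ = t ^ 3 := inv_eq_of_mul_eq_one_right (by rw [← pow_add]; exact h5)
  rw [e3] at e
  have ht : t = x * t ^ 3 * x⁻¹ := by rw [← e]; group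
  have h6 : t ^ 6 = t := by rw [pow_succ, h5, one_mul]
  calc x * t * x⁻¹ = x * t ^ 6 * x⁻¹ := by rw [h6]
    _ = (x * t ^ 3 * x⁻¹) ^ 2 := by rw [conj_pow, ← pow_mul]
    _ = t ^ 2 := by rw [← ht]

theorem cWords_comm : ∀ w ∈ cWords, Commute (evW evH w) (evH 6) := by
  obtain ⟨hty, h1, -, h5⟩ := t_facts
  have hx := conj_square h1 h5
  have hy : Commute (evH 2) (evH 6) := hty.symm
  have conj : ∀ {g : Cfsg.Spor.HN}, Commute g (evH 6) → Commute (evH 0 * g * (evH 0)⁻¹) (evH 6 ^ 2) := by
    intro g hg
    rw [← hx]
    exact hg.map (MulAut.conj (evH 0)).toMonoidHom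
  have back : ∀ {g : Cfsg.Spor.HN}, Commute g (evH 6 ^ 2) → Commute g (evH 6) := by
    intro g hg
    have := hg.pow_right 3
    rwa [← pow_mul, show evH 6 ^ (2 * 3) = evH 6 by rw [show 2 * 3 = 5 + 1 from rfl, pow_succ, h5, one_mul]] at this
  have step : ∀ {g : Cfsg.Spor.HN}, Commute g (evH 6) → Commute (evH 0 * g * (evH 0)⁻¹) (evH 6) :=
    fun hg => back (conj hg)
  intro w hw
  simp only [cWords, List.mem_cons, List.not_mem_nil, or_false] at hw
  rcases hw with rfl | rfl | rfl | rfl
  · simpa [evW_cons] using hy
  · simpa [evW_cons, evH_one, mul_assoc] using step hy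
  · simpa [evW_cons, evH_one, mul_assoc] using step (step hy)
  · have hx4 : evH 0 ^ 4 = 1 := by
      have := congrArg psi HNxyz.x_four
      rwa [map_pow, map_one, HNxyz.psi_of] at this
    have e : (evH 0)⁻¹ = evH 0 ^ 3 := inv_eq_of_mul_eq_one_right (by rw [← pow_succ']; exact hx4)
    have h3 := step (step (step hy))
    have e' : evH 0 * (evH 0 * (evH 0 * evH 2 * (evH 0)⁻¹) * (evH 0)⁻¹) * (evH 0)⁻¹ =
        (evH 0)⁻¹ * evH 2 * evH 0 := by
      have e3 : ((evH 0) ^ 3)⁻¹ = evH 0 := by rw [← e, inv_inv]
      calc evH 0 * (evH 0 * (evH 0 * evH 2 * (evH 0)⁻¹) * (evH 0)⁻¹) * (evH 0)⁻¹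
          = evH 0 ^ 3 * evH 2 * (evH 0 ^ 3)⁻¹ := by simp [pow_succ, mul_assoc, mul_inv_rev]
        _ = (evH 0)⁻¹ * evH 2 * evH 0 := by rw [e3, e]
    rw [e'] at h3
    simpa [evW_cons, evH_one, mul_assoc] using h3

theorem relsT_hold : ∀ w ∈ relsT, evW evH w = 1 := by
  obtain ⟨-, h1, h3, h5⟩ := t_facts
  have hx := conj_square h1 h5
  have p2 : evH 0 * evH 0 * evH 6 * (evH 0)⁻¹ * (evH 0)⁻¹ = evH 6 ^ 4 := by
    calc evH 0 * evH 0 * evH 6 * (evH 0)⁻¹ * (evH 0)⁻¹
        = evH 0 * (evH 0 * evH 6 * (evH 0)⁻¹) * (evH 0)⁻¹ := by group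
      _ = (evH 0 * evH 6 * (evH 0)⁻¹) ^ 2 := by rw [conj_pow, hx]
      _ = evH 6 ^ 4 := by rw [hx, ← pow_mul]
  intro w hw
  simp only [relsT, List.mem_cons, List.not_mem_nil, or_false] at hw
  rcases hw with rfl | rfl | rfl
  · simpa [evW_cons, pow_succ, mul_assoc] using h3
  · calc evW evH [6, 0, 0, 6, 1, 1] = evH 6 * (evH 0 * evH 0 * evH 6 * (evH 0)⁻¹ * (evH 0)⁻¹) := by
          simp [evW_cons, evH_one, mul_assoc]
      _ = 1 := by rw [p2, ← pow_succ', h5]
  · calc evW evH [6, 6, 0, 0, 0, 6, 1, 1, 1]
        = evH 6 * evH 6 * (evH 0 * (evH 0 * evH 0 * evH 6 * (evH 0)⁻¹ * (evH 0)⁻¹) * (evH 0)⁻¹) := by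
          simp [evW_cons, evH_one, mul_assoc]
      _ = evH 6 ^ 10 := by
          rw [p2, ← conj_pow, hx, ← pow_mul, ← pow_two, ← pow_add]
      _ = 1 := by rw [show 10 = 5 * 2 from rfl, pow_mul, h5, one_pow]

/-- a named point -/
noncomputable def pnt (gw : List (List ℕ)) (i : ℕ) : X := evW evH (gw.getD i []) • x0

/-- the recorded facts are true -/
structure Holds (gw : List (List ℕ)) (K : Know) : Prop where
  loops : ∀ p ∈ K.loops, evW evH p.2 • pnt gw p.1 = pnt gw p.1
  edges : ∀ e ∈ K.edges, evH 6 • evW evH e.u • pnt gw e.i = evW evH e.m • pnt gw e.j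

variable {gw : List (List ℕ)} {K : Know}

theorem kW_comm {k : List ℕ} (h : kOK k = true) : Commute (evW evH (kW k)) (evH 6) := by
  induction k with
  | nil => simp [kW, cat]
  | cons q k ih =>
    simp only [kOK, List.all_cons, Bool.and_eq_true, Nat.blt_eq] at h
    have e : kW (q :: k) = cWords.getD q [] ++ kW k := rfl
    rw [e, evW_append]
    refine Commute.mul_left ?_ (ih h.2)
    have : cWords.getD q [] ∈ cWords := by
      have hq : q < cWords.length := h.1
      rw [List.getD_eq_getElem _ _ hq]
      exact List.getElem_mem hq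
    exact cWords_comm _ this

theorem sW_fix (hK : Holds gw K) {i : ℕ} {s : List ℕ} (h : sOK K i s = true) :
    evW evH (sW K s) • pnt gw i = pnt gw i := by
  induction s with
  | nil => simp [sW, cat]
  | cons q s ih =>
    simp only [sOK, List.all_cons, Bool.and_eq_true, Nat.blt_eq] at h
    obtain ⟨⟨hq, hi⟩, hs⟩ := h
    have e : sW K (q :: s) = (K.loops.map Prod.snd).getD q [] ++ sW K s := rfl
    rw [e, evW_append, mul_smul, ih hs]
    have hm : K.loops.getD q (0, []) ∈ K.loops := by
      rw [List.getD_eq_getElem _ _ hq]
      exact List.getElem_mem hq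
    have h2 : (K.loops.map Prod.snd).getD q [] = (K.loops.getD q (0, [])).2 := by
      rw [List.getD_eq_getElem _ _ (by simpa using hq), List.getD_eq_getElem _ _ hq, List.getElem_map]
    rw [h2]
    have := hK.loops _ hm
    rwa [Nat.eq_of_beq_eq_true hi] at this

/-- applying a known edge -/
theorem edge_fwd (hK : Holds gw K) {e : Edge} (he : e ∈ K.edges) {k s : List ℕ} (hk : kOK k = true)
    (hs : sOK K e.i s = true) {n : List ℕ} (hn : eqT n (kW k ++ e.u ++ sW K s) = true) :
    evH 6 • evW evH n • pnt gw e.i = evW evH (kW k ++ e.m) • pnt gw e.j := by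
  rw [eqT_H hn, evW_append, evW_append, mul_smul, mul_smul, sW_fix hK hs, smul_smul, ← (kW_comm hk).eq,
    mul_smul, hK.edges e he, smul_smul, ← evW_append]

theorem edge_bwd (hK : Holds gw K) {e : Edge} (he : e ∈ K.edges) {k s : List ℕ} (hk : kOK k = true)
    (hs : sOK K e.j s = true) {n : List ℕ} (hn : eqT n (kW k ++ e.m ++ sW K s) = true) :
    evH 7 • evW evH n • pnt gw e.j = evW evH (kW k ++ e.u) • pnt gw e.i := by
  rw [eqT_H hn, evW_append, evW_append, mul_smul, mul_smul, sW_fix hK hs, ← hK.edges e he, evH_six,
    evW_append, mul_smul, inv_smul_eq_iff, smul_smul, (kW_comm hk).eq, mul_smul]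

theorem step1_sound (hK : Holds gw K) {x : ℕ} {apps : List App} {v : ℕ × List ℕ}
    {r : (ℕ × List ℕ) × List App} (h : step1 K x apps v = some r) :
    evH x • evW evH v.2 • pnt gw v.1 = evW evH r.1.2 • pnt gw r.1.1 := by
  unfold step1 at h
  cases hx : Nat.blt x 6
  · rw [hx] at h
    simp only [cond_false] at h
    split at h
    · exact absurd h (by simp)
    · rename_i a rest
      split at h
      · exact absurd h (by simp)
      · rename_i e he
        have hem : e ∈ K.edges := List.mem_of_getElem? he
        cases hx6 : Nat.beq x 6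
        · rw [hx6] at h
          simp only [cond_false] at h
          cases hc : (Nat.beq x 7 && (Nat.beq e.j v.1 && kOK a.k && sOK K v.1 a.s &&
              eqT v.2 (kW a.k ++ e.m ++ sW K a.s)))
          · rw [hc] at h; exact absurd h (by simp)
          · rw [hc] at h
            simp only [cond_true, Option.some.injEq] at h
            simp only [Bool.and_eq_true] at hc
            obtain ⟨h7, ⟨⟨hj, hk⟩, hs⟩, hn⟩ := hc
            subst h
            rw [Nat.eq_of_beq_eq_true h7, ← Nat.eq_of_beq_eq_true hj]
            rw [← Nat.eq_of_beq_eq_true hj] at hs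
            exact edge_bwd hK hem hk hs hn
        · rw [hx6] at h
          simp only [cond_true] at h
          cases hc : (Nat.beq e.i v.1 && kOK a.k && sOK K v.1 a.s && eqT v.2 (kW a.k ++ e.u ++ sW K a.s))
          · rw [hc] at h; exact absurd h (by simp)
          · rw [hc] at h
            simp only [cond_true, Option.some.injEq] at h
            simp only [Bool.and_eq_true] at hc
            obtain ⟨⟨⟨hj, hk⟩, hs⟩, hn⟩ := hc
            subst h
            rw [Nat.eq_of_beq_eq_true hx6, ← Nat.eq_of_beq_eq_true hj]
            rw [← Nat.eq_of_beq_eq_true hj] at hs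
            exact edge_fwd hK hem hk hs hn
  · rw [hx] at h
    simp only [cond_true, Option.some.injEq] at h
    subst h
    rw [evW_cons, mul_smul]

theorem run_sound (hK : Holds gw K) : ∀ {xs : List ℕ} {apps : List App} {v r : ℕ × List ℕ},
    run K xs apps v = some r → evW evH xs.reverse • evW evH v.2 • pnt gw v.1 = evW evH r.2 • pnt gw r.1
  | [], apps, v, r, h => by
    simp only [run, Option.some.injEq] at h
    subst h
    simp
  | x :: xs, apps, v, r, h => by
    unfold run at h
    split at h
    · exact absurd h (by simp)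
    · rename_i q hq
      rw [List.reverse_cons, evW_append, mul_smul, evW_cons, evW_nil, mul_one, step1_sound hK hq]
      exact run_sound hK h

/-- a relator split in two gives two ways to the same point -/
theorem scan_split {r rot lo : ℕ} (hr : r < 3) :
    evW evH ((rotW (relsT.getD r []) rot).drop lo) =
      evW evH (((rotW (relsT.getD r []) rot).take lo).map lettersHN.A.invl).reverse := by
  have hmem : relsT.getD r [] ∈ relsT := by
    have hl : r < relsT.length := hr
    rw [List.getD_eq_getElem _ _ hl]
    exact List.getElem_mem hl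
  set w := relsT.getD r [] with hw
  have h1 : evW evH (rotW w rot) = 1 := evW_rotate_eq_one evH (by rw [List.take_append_drop]; exact relsT_hold w hmem)
  have hlt : ∀ x ∈ rotW w rot, x ≤ lettersHN.A.eps := by
    intro x hx
    have : x ∈ w := by
      simp only [rotW, List.mem_append] at hx
      exact hx.elim List.mem_of_mem_drop List.mem_of_mem_take
    have h8 : ∀ w ∈ relsT, ∀ x ∈ w, x ≤ 8 := by decide
    exact h8 w hmem x this
  rw [← List.take_append_drop lo (rotW w rot), evW_append] at h1
  rw [show (((rotW w rot).take lo).map lettersHN.A.invl).reverse = invWord lettersHN.A ((rotW w rot).take lo) from rfl,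
    evW_invWord evH_good (fun x hx => hlt x (List.mem_of_mem_take hx))]
  exact eq_inv_of_mul_eq_one_right h1

theorem evStep_sound (hK : Holds gw K) {e : Ev} {K' : Know} (h : evStep gw K e = some K') : Holds gw K' := by
  cases e with
  | root i u j =>
    simp only [evStep] at h
    cases hc : (low u && listEq (gw.getD j []) (6 :: u ++ gw.getD i []))
    · rw [hc] at h; exact absurd h (by simp)
    · rw [hc] at h
      simp only [cond_true, Option.some.injEq] at h
      simp only [Bool.and_eq_true] at hc
      subst h
      refine ⟨hK.loops, fun e he => ?_⟩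
      rcases List.mem_append.1 he with he | he
      · exact hK.edges e he
      · rw [List.mem_singleton] at he
        subst he
        rw [evW_nil, one_smul]
        show _ = evW evH (gw.getD j []) • x0
        rw [listEq_eq hc.2, List.cons_append, evW_cons, evW_append, mul_smul, mul_smul]
        rfl
  | comm a k s l =>
    simp only [evStep] at h
    split at h
    · exact absurd h (by simp)
    · rename_i e he
      have hem : e ∈ K.edges := List.mem_of_getElem? he
      cases hc : (kOK k && sOK K e.i s && eqT (kW k ++ e.u) (e.u ++ sW K s) && eqT (e.m ++ l) (kW k ++ e.m))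
      · rw [hc] at h; exact absurd h (by simp)
      · rw [hc] at h
        simp only [cond_true, Option.some.injEq] at h
        simp only [Bool.and_eq_true] at hc
        obtain ⟨⟨⟨hk, hs⟩, h1⟩, h2⟩ := hc
        subst h
        refine ⟨fun p hp => ?_, hK.edges⟩
        rcases List.mem_append.1 hp with hp | hp
        · exact hK.loops p hp
        · rw [List.mem_singleton] at hp
          subst hp
          apply smul_left_cancel (evW evH e.m)
          rw [smul_smul, ← evW_append, eqT_H h2, evW_append, mul_smul]
          show evW evH (kW k) • evW evH e.m • pnt gw e.j = evW evH e.m • pnt gw e.j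
          rw [← hK.edges e hem, smul_smul, (kW_comm hk).eq, mul_smul, smul_smul (evW evH (kW k)), ← evW_append,
            eqT_H h1, evW_append, mul_smul, sW_fix hK hs]
  | scan i n r rot lo fs bs c =>
    simp only [evStep] at h
    cases hr : Nat.blt r 3
    · rw [hr] at h; exact absurd h (by simp)
    rw [hr] at h
    simp only [Bool.not_true, cond_false] at h
    rw [Nat.blt_eq] at hr
    have hsp := scan_split (rot := rot) (lo := lo) hr
    cases c with
    | loop s =>
      simp only at h
      split at h
      · rename_i f b hf hb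
        cases hc : (Nat.beq f.1 b.1 && eqT (f.2 ++ s) b.2)
        · rw [hc] at h; exact absurd h (by simp)
        · rw [hc] at h
          simp only [cond_true, Option.some.injEq] at h
          simp only [Bool.and_eq_true] at hc
          subst h
          refine ⟨fun p hp => ?_, hK.edges⟩
          rcases List.mem_append.1 hp with hp | hp
          · exact hK.loops p hp
          · rw [List.mem_singleton] at hp
            subst hp
            have h1 := run_sound hK hf
            have h2 := run_sound hK hb
            rw [List.reverse_reverse, hsp, h2, ← eqT_H hc.2, ← Nat.eq_of_beq_eq_true hc.1, evW_append,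
              mul_smul] at h1
            exact smul_left_cancel _ h1
      · exact absurd h (by simp)
    | edge k s u m =>
      simp only at h
      split at h
      · exact absurd h (by simp)
      rename_i x post hx
      split at h
      · rename_i f b hf hb
        cases hc : (Nat.beq x 6 && kOK k && sOK K f.1 s && eqT f.2 (kW k ++ u ++ sW K s) && eqT (kW k ++ m) b.2)
        · rw [hc] at h; exact absurd h (by simp)
        · rw [hc] at h
          simp only [cond_true, Option.some.injEq] at h
          simp only [Bool.and_eq_true] at hc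
          obtain ⟨⟨⟨⟨h6, hk⟩, hs⟩, hf2⟩, hb2⟩ := hc
          subst h
          refine ⟨hK.loops, fun e he => ?_⟩
          rcases List.mem_append.1 he with he | he
          · exact hK.edges e he
          · rw [List.mem_singleton] at he
            subst he
            have h1 := run_sound hK hf
            have h2 := run_sound hK hb
            rw [List.reverse_reverse] at h1
            rw [hx, Nat.eq_of_beq_eq_true h6, evW_cons] at hsp
            rw [← hsp, mul_smul, h1, ← eqT_H hb2, evW_append, mul_smul, eqT_H hf2, evW_append, evW_append,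
              mul_smul, mul_smul, sW_fix hK hs, smul_smul, ← (kW_comm hk).eq, mul_smul] at h2
            exact smul_left_cancel _ h2
      · exact absurd h (by simp)

theorem evRun_sound : ∀ {es : List Ev} {K K' : Know}, Holds gw K → evRun gw es K = some K' → Holds gw K'
  | [], K, K', hK, h => by
    simp only [evRun, Option.some.injEq] at h
    exact h ▸ hK
  | e :: es, K, K', hK, h => by
    unfold evRun at h
    split at h
    · exact absurd h (by simp)
    · rename_i K1 h1
      exact evRun_sound (evStep_sound hK h1) h

theorem chunk_sound {es : List Ev} {K' : Know} (hK : Holds gw K) (h : chunkOK gw es K K' = true) :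
    Holds gw K' := by
  unfold chunkOK at h
  split at h
  · exact absurd h (by simp)
  · rename_i R hR
    simp only [Bool.and_eq_true] at h
    have := evRun_sound hK hR
    cases R with
    | mk l e =>
      cases K' with
      | mk l' e' =>
        have e1 := loopsEq_eq h.1
        have e2 := edgesEq_eq h.2
        simp only at e1 e2
        rw [← e1, ← e2]
        exact this

end CfsgLib.Presented.HNIndex
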