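import Cfsg.Agent.Lib.Presented.HNIndex.Run
import Mathlib.Data.Set.Card.Arithmetic

/-!
The subgroup on x, y, z of the presented Harada-Norton group has at most 1539000 cosets: nine orbits, closed
under the fourth generator.
-/
set_option autoImplicit false
set_option maxRecDepth 8000

namespace CfsgLib.Presented.HNIndex

open HNxyz (T psi)
open HNIndexSmall (rep base)
open HNIndexEvents (gw state12)
open HNIndexChains (chainC chains)

theorem cGens_comm : (List.range 4).all (fun q => eqT (cGens.getD q []) (cWords.getD q [])) = true := by decide +kernel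

/-- the elements fixing point `i` -/
noncomputable def loopsAt (i : ℕ) : List (List ℕ) := (state12.loops.filter fun p => Nat.beq p.1 i).map Prod.snd

/-- the words of the edges at point `i` -/
noncomputable def usAt (i : ℕ) : List (List ℕ) := (state12.edges.filter fun e => Nat.beq e.i i).map Edge.u

/-- the sizes of the nine orbits -/
def sizes : List ℕ := [1, 1408, 35200, 2200, 123200, 354816, 739200, 5775, 277200]

/-- every element is covered by an edge at point `i` -/
noncomputable def coverOK (i : ℕ) : Bool :=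
  (loopsAt i).all low && (usAt i).all low &&
    Nat.beq (grow rep (loopsAt i) 30 (seeds (usAt i))) (Vec.ones rep.N)

theorem cover_ok : (List.range 9).all coverOK = true := by decide +kernel

theorem targets_ok : (state12.edges.all fun e => Nat.blt e.j 9 && low e.u && low e.m) = true := by decide +kernel

theorem chains_ok : ((List.range 8).all fun q =>
    chainW (loopsAt (q + 1)) (chains.getD q []) &&
      Nat.beq (levProd (chains.getD q []) * sizes.getD (q + 1) 0) 177408000) = true := by decide +kernel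

theorem index_loops {i : ℕ} (hi : i < 9) : (gen (loopsAt i)).index ≤ sizes.getD i 0 := by
  haveI := HNxyz.finite_T
  rcases Nat.eq_zero_or_pos i with rfl | hpos
  · have htop : gen (loopsAt 0) = ⊤ := by
      rw [eq_top_iff, ← HNxyz.closure_gens, Subgroup.closure_le]
      obtain ⟨h0, -, h2, -, h4, -⟩ := HNxyz.ev_vals
      have hm : ∀ x ∈ [0, 2, 4], ((loopsAt 0).contains [x]) = true := by decide +kernel
      have hx : ∀ x ∈ [0, 2, 4], HNxyz.ev x ∈ gen (loopsAt 0) := fun x hx => by
        simpa using mem_gen (List.contains_iff_mem.1 (hm x hx))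
      rintro g (rfl | rfl | rfl)
      · exact h0 ▸ hx 0 (by simp)
      · exact h2 ▸ hx 2 (by simp)
      · exact h4 ▸ hx 4 (by simp)
    rw [htop, Subgroup.index_top]
    decide
  · have h := chains_ok
    simp only [List.all_eq_true, List.mem_range, Bool.and_eq_true] at h
    obtain ⟨hc, hp⟩ := h (i - 1) (by omega)
    rw [show i - 1 + 1 = i by omega] at hc hp
    have hle := levProd_le _ _ hc
    have hmul := (gen (loopsAt i)).card_mul_index
    rw [HNxyz.card_T] at hmul
    have hp' := Nat.eq_of_beq_eq_true hp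
    by_contra hlt
    rw [not_le] at hlt
    have h1 : levProd (chains.getD (i - 1) []) * sizes.getD i 0 < Nat.card (gen (loopsAt i)) * (gen (loopsAt i)).index :=
      lt_of_le_of_lt (Nat.mul_le_mul_right _ hle) (Nat.mul_lt_mul_of_pos_left hlt Nat.card_pos)
    omega

/-- the named points -/
noncomputable abbrev P (i : ℕ) : X := pnt gw i

theorem loops_fix {i : ℕ} (hlow : (loopsAt i).all low = true) {g : T} (hg : g ∈ gen (loopsAt i)) :
    psi g • P i = P i := by
  induction hg using Subgroup.closure_induction with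
  | mem y hy =>
    obtain ⟨w, hw, rfl⟩ := hy
    have hw' : w ∈ loopsAt i := hw
    obtain ⟨p, hp, rfl⟩ := List.mem_map.1 hw'
    rw [List.mem_filter] at hp
    rw [psi_evT (List.all_eq_true.1 hlow _ hw')]
    have := all_hold.loops p hp.1
    rwa [Nat.eq_of_beq_eq_true hp.2] at this
  | one => rw [map_one, one_smul]
  | mul a b _ _ iha ihb => rw [map_mul, mul_smul, ihb, iha]
  | inv a _ ih => rw [map_inv, inv_smul_eq_iff, ih]

/-- the points reached from the named ones -/
def M : Set X := ⋃ i ∈ Finset.range 9, Set.range fun n : T => psi n • P i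

theorem mem_M {q : X} : q ∈ M ↔ ∃ i < 9, ∃ n : T, psi n • P i = q := by
  simp [M]

theorem cW_comm_T {k : T} (hk : k ∈ gen cGens) : Commute (psi k) (evH 6) := by
  induction hk using Subgroup.closure_induction with
  | mem y hy =>
    obtain ⟨w, hw, rfl⟩ := hy
    have h := cGens_ok
    simp only [Bool.and_eq_true] at h
    obtain ⟨q, hq, rfl⟩ := List.getElem_of_mem hw
    have hq4 : q < 4 := by rw [← Nat.eq_of_beq_eq_true h.1]; exact hq
    have he := List.all_eq_true.1 cGens_comm q (List.mem_range.2 hq4)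
    rw [List.getD_eq_getElem _ _ hq] at he
    rw [psi_evT (eqT_low he).1, eqT_H he]
    refine cWords_comm _ ?_
    rw [List.getD_eq_getElem _ _ (show q < cWords.length from hq4)]
    exact List.getElem_mem _
  | one => rw [map_one]; exact Commute.one_left _
  | mul a b _ _ iha ihb => rw [map_mul]; exact iha.mul_left ihb
  | inv a _ ih => rw [map_inv]; exact ih.inv_left

theorem t_closed {q : X} (hq : q ∈ M) : evH 6 • q ∈ M := by
  obtain ⟨i, hi, n, rfl⟩ := mem_M.1 hq
  have h := cover_ok
  simp only [List.all_eq_true, List.mem_range] at h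
  have hc := h i hi
  simp only [coverOK, Bool.and_eq_true] at hc
  obtain ⟨⟨hll, hlu⟩, hgrow⟩ := hc
  have hj : (grow rep (loopsAt i) 30 (seeds (usAt i))).testBit (small n⁻¹ bp : ℕ) = true := by
    rw [Nat.eq_of_beq_eq_true hgrow, Vec.testBit_ones]
    exact decide_eq_true (small n⁻¹ bp).2
  obtain ⟨g, hg, hgs⟩ := grow_spec (fun w hw => List.all_eq_true.1 hll w hw) _ _ _ hj
  obtain ⟨u, hu, hub⟩ := seeds_spec (fun w hw => List.all_eq_true.1 hlu w hw) _ hgs
  obtain ⟨e, he, rfl⟩ := List.mem_map.1 hu
  rw [List.mem_filter] at he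
  have hei : e.i = i := Nat.eq_of_beq_eq_true he.2
  set v := evW HNxyz.ev e.u with hv
  have hk : v * g * n⁻¹ ∈ gen cGens := stab_eq (Fin.ext (by
    rw [map_mul, Equiv.Perm.mul_apply, map_mul, Equiv.Perm.mul_apply]
    exact hub))
  have ht := targets_ok
  simp only [List.all_eq_true, Bool.and_eq_true, Nat.blt_eq] at ht
  obtain ⟨⟨hj9, hlu'⟩, hlm⟩ := ht e he.1
  have hn : psi n • P i = (psi (v * g * n⁻¹))⁻¹ • psi v • P i := by
    conv_lhs => rw [← loops_fix hll ((gen _).inv_mem hg)]
    rw [smul_smul, smul_smul, ← map_mul, ← map_inv, ← map_mul]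
    congr 2
    group
  refine mem_M.2 ⟨e.j, hj9, (v * g * n⁻¹)⁻¹ * evW HNxyz.ev e.m, ?_⟩
  rw [hn, smul_smul, ← ((cW_comm_T hk).inv_left).eq, mul_smul, map_mul, map_inv, mul_smul, psi_evT hlm, hv,
    psi_evT hlu', ← hei, all_hold.edges e he.1]

theorem M_eq : M = Set.univ := by
  haveI := HNxyz.finite_T
  have hfin : M.Finite := (Finset.range 9).finite_toSet.biUnion fun i _ => Set.finite_range _
  let S : Subgroup Cfsg.Spor.HN :=
    { carrier := {g | ∀ q ∈ M, g • q ∈ M ∧ g⁻¹ • q ∈ M}
      one_mem' := fun q hq => by simpa using hq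
      mul_mem' := fun {a b} ha hb q hq => by
        refine ⟨by rw [mul_smul]; exact (ha _ (hb q hq).1).1, ?_⟩
        rw [mul_inv_rev, mul_smul]; exact (hb _ (ha q hq).2).2
      inv_mem' := fun {a} ha q hq => by rw [inv_inv]; exact ⟨(ha q hq).2, (ha q hq).1⟩ }
  have hpsi : ∀ n : T, psi n ∈ S := fun n q hq => by
    obtain ⟨i, hi, m, rfl⟩ := mem_M.1 hq
    exact ⟨mem_M.2 ⟨i, hi, n * m, by rw [map_mul, mul_smul]⟩,
      mem_M.2 ⟨i, hi, n⁻¹ * m, by rw [map_mul, map_inv, mul_smul]⟩⟩
  have ht : evH 6 ∈ S := fun q hq => by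
    refine ⟨t_closed hq, ?_⟩
    have e : (evH 6)⁻¹ = evH 6 ^ 4 := inv_eq_of_mul_eq_one_right (by rw [← pow_succ']; exact t_facts.2.2.2)
    rw [e]
    simp only [pow_succ, pow_zero, one_mul, mul_smul]
    exact t_closed (t_closed (t_closed (t_closed hq)))
  have htop : S = ⊤ := by
    rw [eq_top_iff, ← PresentedGroup.closure_range_of, Subgroup.closure_le]
    rintro _ ⟨g, rfl⟩
    cases g
    · exact HNxyz.psi_of HNxyz.Gen3.x ▸ hpsi _
    · exact HNxyz.psi_of HNxyz.Gen3.y ▸ hpsi _
    · exact HNxyz.psi_of HNxyz.Gen3.z ▸ hpsi _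
    · exact ht
  refine Set.eq_univ_of_forall fun q => ?_
  obtain ⟨g, rfl⟩ := QuotientGroup.mk_surjective q
  have h0 : x0 ∈ M := mem_M.2 ⟨0, by norm_num, 1, by rw [map_one, one_smul]; exact one_smul _ _⟩
  have hmem : g ∈ S := htop ▸ Subgroup.mem_top g
  have := (hmem x0 h0).1
  rwa [x0, MulAction.Quotient.smul_coe, smul_eq_mul, mul_one] at this

theorem orbit_le {i : ℕ} (hi : i < 9) : (Set.range fun n : T => psi n • P i).ncard ≤ sizes.getD i 0 := by
  haveI := HNxyz.finite_T
  have hc := List.all_eq_true.1 cover_ok i (List.mem_range.2 hi)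
  simp only [coverOK, Bool.and_eq_true] at hc
  refine le_trans ?_ (index_loops hi)
  let f : T ⧸ gen (loopsAt i) → X := fun q => psi q.out • P i
  have hsub : (Set.range fun n : T => psi n • P i) ⊆ Set.range f := by
    rintro _ ⟨n, rfl⟩
    refine ⟨(n : T ⧸ gen (loopsAt i)), ?_⟩
    obtain ⟨s, hs⟩ := QuotientGroup.mk_out_eq_mul (gen (loopsAt i)) n
    show psi _ • P i = psi n • P i
    rw [hs, map_mul, mul_smul, loops_fix hc.1.1 s.2]
  refine (Set.ncard_le_ncard hsub (Set.finite_range f)).trans ?_
  rw [← Nat.card_coe_set_eq, Subgroup.index]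
  exact Finite.card_range_le f

/-- **The upper bound.** -/
theorem finite_and_card_le : Finite X ∧ Nat.card X ≤ 1539000 := by
  haveI := HNxyz.finite_T
  have hfin : M.Finite := (Finset.range 9).finite_toSet.biUnion fun i _ => Set.finite_range _
  rw [M_eq] at hfin
  refine ⟨Set.finite_univ_iff.1 hfin, ?_⟩
  rw [← Set.ncard_univ, ← M_eq, M]
  refine (Finset.set_ncard_biUnion_le _ _).trans ?_
  refine (Finset.sum_le_sum fun i hi => orbit_le (Finset.mem_range.1 hi)).trans ?_
  decide

/-- The subgroup on x, y, z has finite index. -/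
theorem index_ne_zero : HNxyz.N.index ≠ 0 := by
  haveI : Finite X := finite_and_card_le.1
  exact Subgroup.index_ne_zero_of_finite

end CfsgLib.Presented.HNIndex
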